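import Mathlib
import Cfsg.Agent.OddHalf.D4.Basic
import Cfsg.Agent.OddHalf.D4.CommConj
import Cfsg.Agent.Lib.ProductSet

/-!
# ODD, D4, rank one ends: tools

Conjugates `cj g X`, Sylow counting, and the transvection count: if for every `b` of the abelian
group `D` some `t ∈ Γ` centralizes `D` and maps `w` to `w b`, and `K ≤ Γ` centralizes `w` and `D`,
then `|K| |D|` divides `|Γ|`.
-/

set_option autoImplicit false

namespace Cfsg.Agent.OddHalf.D4.RkEnd.Tools

open Subgroup Cfsg.Agent.OddHalf.D4.Basic Cfsg.Agent.OddHalf.D4.CommConj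

universe u

variable {G : Type u} [Group G]

theorem cj_one (X : Subgroup G) : cj 1 X = X := by
  ext x
  rw [mem_cj]
  simp

theorem cj_mono {g : G} {X Y : Subgroup G} (h : X ≤ Y) : cj g X ≤ cj g Y := by
  intro x hx
  rw [mem_cj] at hx ⊢
  exact h hx

theorem cj_le_iff {g : G} {X Y : Subgroup G} : cj g X ≤ Y ↔ X ≤ cj g⁻¹ Y := by
  constructor
  · intro h x hx
    rw [mem_cj, inv_inv]
    apply h
    exact mem_cj_mul hx
  · intro h x hx
    rw [mem_cj] at hx
    have h1 := h hx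
    rw [mem_cj, inv_inv] at h1
    have h2 : g * (g⁻¹ * x * g) * g⁻¹ = x := by group
    rwa [h2] at h1

theorem le_cj_iff {g : G} {X Y : Subgroup G} : X ≤ cj g Y ↔ cj g⁻¹ X ≤ Y := by
  rw [cj_le_iff, inv_inv]

theorem cj_eq_iff {g : G} {X Y : Subgroup G} : cj g X = Y ↔ X = cj g⁻¹ Y := by
  constructor
  · rintro rfl
    rw [← cj_mul, inv_mul_cancel, cj_one]
  · rintro rfl
    rw [← cj_mul, mul_inv_cancel, cj_one]

theorem cj_inf (g : G) (X Y : Subgroup G) : cj g (X ⊓ Y) = cj g X ⊓ cj g Y := by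
  ext x
  rw [mem_inf, mem_cj, mem_cj, mem_cj, mem_inf]

theorem isPGroup_cj {g : G} {X : Subgroup G} {p : ℕ} (h : IsPGroup p X) : IsPGroup p (cj g X) :=
  h.map _

theorem cj_le_of_mem {g : G} {X Y : Subgroup G} (hg : g ∈ Y) (h : X ≤ Y) : cj g X ≤ Y := by
  intro x hx
  rw [mem_cj] at hx
  have h2 : x = g * (g⁻¹ * x * g) * g⁻¹ := by group
  rw [h2]
  exact mul_mem (mul_mem hg (h hx)) (inv_mem hg)

/-- membership in the centralizer of a subgroup -/
theorem mem_cent {D : Subgroup G} {x : G} : x ∈ centralizer (D : Set G) ↔ ∀ d ∈ D, x * d = d * x := by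
  rw [mem_centralizer_iff]
  constructor
  · intro h d hd
    exact (h d hd).symm
  · intro h d hd
    exact (h d hd).symm

theorem mem_cent1 {w x : G} : x ∈ centralizer ({w} : Set G) ↔ x * w = w * x := by
  rw [mem_centralizer_iff]
  constructor
  · intro h
    exact (h w rfl).symm
  · rintro h d rfl
    exact h.symm

theorem conj_eq_iff_comm {x y : G} : x * y * x⁻¹ = y ↔ x * y = y * x :=
  mul_inv_eq_iff_eq_mul

/-- elementary groups are abelian -/
theorem comm_of_elem {A : Subgroup G} (h : ∀ a ∈ A, a * a = 1) {a b : G} (ha : a ∈ A) (hb : b ∈ A) :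
    a * b = b * a := by
  have h1 := h _ (mul_mem ha hb)
  have h2 := h a ha
  have h3 := h b hb
  have e1 : a⁻¹ = a := inv_eq_of_mul_eq_one_left h2
  have e2 : b⁻¹ = b := inv_eq_of_mul_eq_one_left h3
  calc a * b = (a * b)⁻¹ := (inv_eq_of_mul_eq_one_left h1).symm
    _ = b⁻¹ * a⁻¹ := mul_inv_rev a b
    _ = b * a := by rw [e1, e2]

theorem isPGroup_of_elem {A : Subgroup G} (h : ∀ a ∈ A, a * a = 1) : IsPGroup 2 A := by
  rintro ⟨a, ha⟩
  refine ⟨1, ?_⟩
  apply Subtype.ext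
  rw [pow_one, SubmonoidClass.coe_pow, pow_two]
  exact h a ha

theorem card_le_of_dvd_syl [Finite G] {R Γ : Subgroup G} (h : IsSyl R Γ) {k : ℕ}
    (hk : 2 ^ k ∣ Nat.card Γ) : 2 ^ k ≤ Nat.card R := by
  have : Fact (Nat.Prime 2) := ⟨Nat.prime_two⟩
  obtain ⟨K, hK⟩ := Sylow.exists_subgroup_card_pow_prime 2 hk
  have h1 : IsPGroup 2 K := IsPGroup.of_card hK
  have h2 : IsPGroup 2 (K.map Γ.subtype) := h1.map _
  obtain ⟨m, -, hm⟩ := h.conj_into h2 (map_subtype_le K)
  have h3 : cj m (K.map Γ.subtype) ≤ R := by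
    rintro _ ⟨q, hq, rfl⟩
    exact hm q hq
  have h4 := Subgroup.card_le_of_le h3
  rw [card_cj, Subgroup.card_map_of_injective Γ.subtype_injective, hK] at h4
  exact h4

theorem exists_two_pow [Finite G] {X : Subgroup G} (h : IsPGroup 2 X) : ∃ k : ℕ, Nat.card X = 2 ^ k := by
  have : Fact (Nat.Prime 2) := ⟨Nat.prime_two⟩
  exact IsPGroup.iff_card.mp h

/-- Sylow: a 2-subgroup is at most as large -/
theorem card_le_of_syl [Finite G] {R Γ Q : Subgroup G} (h : IsSyl R Γ) (hQ : IsPGroup 2 Q) (hQΓ : Q ≤ Γ) :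
    Nat.card Q ≤ Nat.card R := by
  obtain ⟨k, hk⟩ := exists_two_pow hQ
  rw [hk]
  apply card_le_of_dvd_syl h
  rw [← hk]
  exact Subgroup.card_dvd_of_le hQΓ

/-- a 2-subgroup lies in a conjugate of the Sylow group -/
theorem exists_le_cj [Finite G] {S M Q : Subgroup G} (h : IsSyl S M) (hQ : IsPGroup 2 Q) (hQM : Q ≤ M) :
    ∃ m ∈ M, Q ≤ cj m S := by
  obtain ⟨m, hm, hmq⟩ := h.conj_into hQ hQM
  refine ⟨m⁻¹, inv_mem hm, ?_⟩
  intro x hx
  rw [mem_cj, inv_inv]
  exact hmq x hx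

theorem IsSyl.cj {S M : Subgroup G} (h : IsSyl S M) (g : G) : IsSyl (cj g S) (cj g M) := by
  refine ⟨isPGroup_cj h.two, cj_mono h.le, ?_⟩
  intro Q hQ hle hQM
  rw [le_cj_iff]
  apply h.max _ (isPGroup_cj hQ)
  · rw [le_cj_iff, inv_inv]
    exact hle
  · rw [← le_cj_iff]
    exact hQM

theorem IsSyl.eq_of_card_le [Finite G] {R Q Γ : Subgroup G} (h : IsSyl R Γ) (hQ : IsPGroup 2 Q) (hQΓ : Q ≤ Γ)
    (hc : Nat.card R ≤ Nat.card Q) : IsSyl Q Γ := by
  refine ⟨hQ, hQΓ, ?_⟩
  intro Q' hQ' hle hQ'Γ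
  have h1 := card_le_of_syl h hQ' hQ'Γ
  exact (Subgroup.eq_of_le_of_card_ge hle (h1.trans hc)).ge

theorem card_mul_relIndex {H K : Subgroup G} (h : H ≤ K) :
    Nat.card H * H.relIndex K = Nat.card K := by
  rw [Subgroup.relIndex, ← Nat.card_congr (Subgroup.subgroupOfEquivOfLe h).toEquiv]
  exact Subgroup.card_mul_index _

theorem relIndex_of_card [Finite G] {A R : Subgroup G} (hAR : A ≤ R)
    (hc : Nat.card R ≤ 2 * Nat.card A) {a : G} (ha : a ∈ R) (ha' : a ∉ A) : A.relIndex R = 2 := by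
  have h1 := card_mul_relIndex hAR
  have h2 : 0 < Nat.card A := Nat.card_pos
  have h3 : A.relIndex R ≤ 2 := by
    rw [← h1, mul_comm] at hc
    exact Nat.le_of_mul_le_mul_right hc h2
  have h4 : A.relIndex R ≠ 1 := by
    intro h5
    exact ha' (Subgroup.relIndex_eq_one.mp h5 ha)
  have h5 : A.relIndex R ≠ 0 := by
    intro h6
    rw [h6, mul_zero] at h1
    exact (Nat.card_pos (α := R)).ne h1
  omega

theorem card_eq_of_card [Finite G] {A R : Subgroup G} (hAR : A ≤ R)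
    (hc : Nat.card R ≤ 2 * Nat.card A) {a : G} (ha : a ∈ R) (ha' : a ∉ A) :
    Nat.card R = 2 * Nat.card A := by
  have h1 := card_mul_relIndex hAR
  rw [relIndex_of_card hAR hc ha ha'] at h1
  rw [← h1, mul_comm]

theorem mul_mem_of_card [Finite G] {A R : Subgroup G} (hAR : A ≤ R)
    (hc : Nat.card R ≤ 2 * Nat.card A) {a b : G} (ha : a ∈ R) (ha' : a ∉ A) (hb : b ∈ R) (hb' : b ∉ A) :
    a * b ∈ A := by
  have h1 : (A.subgroupOf R).index = 2 := relIndex_of_card hAR hc ha ha'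
  have h2 := Subgroup.mul_mem_iff_of_index_two h1 (a := ⟨a, ha⟩) (b := ⟨b, hb⟩)
  rw [mem_subgroupOf, mem_subgroupOf, mem_subgroupOf] at h2
  exact h2.mpr ⟨fun h => absurd h ha', fun h => absurd h hb'⟩

/-- `|H ∩ K| |HK| = |H| |K|` inside a group of order `≤ n` -/
theorem card_inf_ge [Finite G] {H K L : Subgroup G} (hH : H ≤ L) (hK : K ≤ L) :
    Nat.card H * Nat.card K ≤ Nat.card L * Nat.card (H ⊓ K : Subgroup G) := by
  rw [← Cfsg.Agent.Lib.ProductSet.card_mul_card_inf H K]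
  apply Nat.mul_le_mul_right
  apply Nat.card_mono (Set.toFinite _)
  rintro _ ⟨a, ha, b, hb, rfl⟩
  exact mul_mem (hH ha) (hK hb)

/-- the group `C ⟨w⟩`, `w` an involution commuting with `C` -/
def ext (C : Subgroup G) (w : G) (hw : w * w = 1) (hc : ∀ c ∈ C, c * w = w * c) : Subgroup G where
  carrier := {b | b ∈ C ∨ w * b ∈ C}
  one_mem' := Or.inl (one_mem _)
  mul_mem' := by
    rintro a b (ha | ha) (hb | hb)
    · exact Or.inl (mul_mem ha hb)
    · right
      rw [← mul_assoc, ← hc a ha, mul_assoc]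
      exact mul_mem ha hb
    · right
      rw [← mul_assoc]
      exact mul_mem ha hb
    · left
      have e1 : a * b = (w * a) * (w * b) := by
        have h1 := hc _ ha
        calc a * b = (w * w) * a * b := by rw [hw, one_mul]
          _ = (w * (w * a)) * b := by group
          _ = ((w * a) * w) * b := by rw [h1]
          _ = (w * a) * (w * b) := by group
      rw [e1]
      exact mul_mem ha hb
  inv_mem' := by
    rintro a (ha | ha)
    · exact Or.inl (inv_mem ha)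
    · right
      have e1 : w * a⁻¹ = (w * a)⁻¹ := by
        have h1 := hc _ (inv_mem ha)
        calc w * a⁻¹ = (w * (w * a)⁻¹) * w := by group
          _ = ((w * a)⁻¹ * w) * w := by rw [h1]
          _ = (w * a)⁻¹ := by rw [mul_assoc, hw, mul_one]
      rw [e1]
      exact inv_mem ha

theorem mem_ext {C : Subgroup G} {w : G} {hw : w * w = 1} {hc : ∀ c ∈ C, c * w = w * c} {b : G} :
    b ∈ ext C w hw hc ↔ b ∈ C ∨ w * b ∈ C := Iff.rfl

theorem le_ext {C : Subgroup G} {w : G} {hw : w * w = 1} {hc : ∀ c ∈ C, c * w = w * c} :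
    C ≤ ext C w hw hc := fun _ hx => Or.inl hx

theorem self_mem_ext {C : Subgroup G} {w : G} {hw : w * w = 1} {hc : ∀ c ∈ C, c * w = w * c} :
    w ∈ ext C w hw hc := by
  right
  rw [hw]
  exact one_mem _

theorem ext_le {C X : Subgroup G} {w : G} {hw : w * w = 1} {hc : ∀ c ∈ C, c * w = w * c}
    (h1 : C ≤ X) (h2 : w ∈ X) : ext C w hw hc ≤ X := by
  rintro b (hb | hb)
  · exact h1 hb
  · have := mul_mem (inv_mem h2) (h1 hb)
    rwa [inv_mul_cancel_left] at this

theorem ext_elem {C : Subgroup G} {w : G} {hw : w * w = 1} {hc : ∀ c ∈ C, c * w = w * c}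
    (he : ∀ c ∈ C, c * c = 1) : ∀ b ∈ ext C w hw hc, b * b = 1 := by
  rintro b (hb | hb)
  · exact he b hb
  · have h1 := hc _ hb
    have h2 := he _ hb
    have e : b = w * (w * b) := by rw [← mul_assoc, hw, one_mul]
    calc b * b = (w * (w * b)) * (w * (w * b)) := by rw [← e]
      _ = w * ((w * b) * w) * (w * b) := by group
      _ = w * (w * (w * b)) * (w * b) := by rw [h1]
      _ = (w * w) * ((w * b) * (w * b)) := by group
      _ = 1 := by rw [hw, h2, one_mul]

theorem card_ext [Finite G] {C : Subgroup G} {w : G} {hw : w * w = 1} {hc : ∀ c ∈ C, c * w = w * c}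
    (hwC : w ∉ C) : Nat.card (ext C w hw hc) = 2 * Nat.card C := by
  have h1 : (C.subgroupOf (ext C w hw hc)).index = 2 := by
    rw [Subgroup.index_eq_two_iff]
    refine ⟨⟨w, self_mem_ext⟩, ?_⟩
    rintro ⟨b, hb⟩
    rw [mem_subgroupOf, mem_subgroupOf]
    show Xor (b * w ∈ C) (b ∈ C)
    rcases hb with hb | hb
    · right
      refine ⟨hb, fun h => hwC ?_⟩
      have := mul_mem (inv_mem hb) h
      rwa [inv_mul_cancel_left] at this
    · left
      have hbC : b ∉ C := by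
        intro h
        apply hwC
        have := mul_mem hb (inv_mem h)
        rwa [mul_inv_cancel_right] at this
      refine ⟨?_, hbC⟩
      have h1 := hc _ hb
      have e : b * w = w * b := by
        calc b * w = (w * w) * b * w := by rw [hw, one_mul]
          _ = w * ((w * b) * w) := by group
          _ = w * (w * (w * b)) := by rw [h1]
          _ = (w * w) * (w * b) := by group
          _ = w * b := by rw [hw, one_mul]
      rw [e]
      exact hb
  have h2 : C.relIndex (ext C w hw hc) = 2 := h1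
  have h3 := card_mul_relIndex (le_ext : C ≤ ext C w hw hc)
  rw [h2] at h3
  rw [← h3, mul_comm]

/-- **the transvection count** -/
theorem trans_dvd [Finite G] {Γ D K : Subgroup G} {w : G}
    (ht : ∀ b ∈ D, ∃ t ∈ Γ, (∀ c ∈ D, t * c = c * t) ∧ t * w * t⁻¹ = w * b)
    (hK : K ≤ Γ) (hKw : ∀ k ∈ K, k * w = w * k) (hKD : ∀ k ∈ K, ∀ c ∈ D, k * c = c * k) :
    Nat.card K * Nat.card D ∣ Nat.card Γ := by
  let N : Subgroup G :=
    { carrier := {n | n ∈ Γ ∧ (∀ c ∈ D, n * c = c * n) ∧ w⁻¹ * (n * w * n⁻¹) ∈ D}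
      one_mem' := by
        refine ⟨one_mem _, fun c _ => by simp, ?_⟩
        simp
      mul_mem' := by
        rintro a b ⟨ha1, ha2, ha3⟩ ⟨hb1, hb2, hb3⟩
        refine ⟨mul_mem ha1 hb1, fun c hc => ?_, ?_⟩
        · rw [mul_assoc, hb2 c hc, ← mul_assoc, ha2 c hc, mul_assoc]
        · have e1 : w⁻¹ * (a * b * w * (a * b)⁻¹) =
              (w⁻¹ * (a * w * a⁻¹)) * (a * (w⁻¹ * (b * w * b⁻¹)) * a⁻¹) := by group
          rw [e1, conj_eq_iff_comm.mpr (ha2 _ hb3)]
          exact mul_mem ha3 hb3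
      inv_mem' := by
        rintro a ⟨ha1, ha2, ha3⟩
        have ha2' : ∀ c ∈ D, a⁻¹ * c = c * a⁻¹ := by
          intro c hc
          rw [inv_mul_eq_iff_eq_mul, ← mul_assoc, ha2 c hc, mul_inv_cancel_right]
        refine ⟨inv_mem ha1, ha2', ?_⟩
        have e1 : w⁻¹ * (a⁻¹ * w * a⁻¹⁻¹) = (a⁻¹ * (w⁻¹ * (a * w * a⁻¹)) * a⁻¹⁻¹)⁻¹ := by group
        rw [e1, conj_eq_iff_comm.mpr (ha2' _ ha3)]
        exact inv_mem ha3 }
  have hDm : ∀ n : N, w⁻¹ * ((n : G) * w * (n : G)⁻¹) ∈ D := fun n => n.2.2.2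
  let f : N →* D :=
    { toFun := fun n => ⟨w⁻¹ * ((n : G) * w * (n : G)⁻¹), hDm n⟩
      map_one' := by
        apply Subtype.ext
        simp
      map_mul' := by
        intro a b
        apply Subtype.ext
        show w⁻¹ * ((a : G) * b * w * ((a : G) * b)⁻¹) = w⁻¹ * ((a : G) * w * (a : G)⁻¹) *
          (w⁻¹ * ((b : G) * w * (b : G)⁻¹))
        have e1 : w⁻¹ * ((a : G) * b * w * ((a : G) * b)⁻¹) =
              (w⁻¹ * ((a : G) * w * (a : G)⁻¹)) * ((a : G) * (w⁻¹ * ((b : G) * w * (b : G)⁻¹)) * (a : G)⁻¹) := by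
          group
        rw [e1, conj_eq_iff_comm.mpr (a.2.2.1 _ b.2.2.2)] }
  have hsurj : Function.Surjective f := by
    rintro ⟨b, hb⟩
    obtain ⟨t, htΓ, htD, htw⟩ := ht b hb
    have hb' : w⁻¹ * (t * w * t⁻¹) = b := by rw [htw, inv_mul_cancel_left]
    refine ⟨⟨t, htΓ, htD, ?_⟩, ?_⟩
    · rw [hb']; exact hb
    · apply Subtype.ext
      exact hb'
  have h1 : Nat.card f.ker * f.ker.index = Nat.card N := Subgroup.card_mul_index _
  rw [Subgroup.index_ker, MonoidHom.range_eq_top.mpr hsurj, Subgroup.card_top] at h1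
  have h2 : Nat.card K ∣ Nat.card f.ker := by
    have hKN : K ≤ N := by
      intro k hk
      refine ⟨hK hk, hKD k hk, ?_⟩
      rw [conj_eq_iff_comm.mpr (hKw k hk), inv_mul_cancel]
      exact one_mem _
    have h3 : K.subgroupOf N ≤ f.ker := by
      intro k hk
      rw [MonoidHom.mem_ker]
      apply Subtype.ext
      show w⁻¹ * ((k : G) * w * (k : G)⁻¹) = 1
      rw [conj_eq_iff_comm.mpr (hKw k (mem_subgroupOf.mp hk)), inv_mul_cancel]
    have h4 := Subgroup.card_dvd_of_le h3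
    rwa [Nat.card_congr (Subgroup.subgroupOfEquivOfLe hKN).toEquiv] at h4
  have h5 : Nat.card N ∣ Nat.card Γ := Subgroup.card_dvd_of_le (fun n hn => hn.1)
  exact (Nat.mul_dvd_mul_right h2 _).trans (h1 ▸ h5)

end Cfsg.Agent.OddHalf.D4.RkEnd.Tools
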