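import Mathlib
import Cfsg.Agent.OddHalf.D4.RkEnd.Tools

/-!
# ODD, D4, rank one ends: more tools
-/

set_option autoImplicit false

namespace Cfsg.Agent.OddHalf.D4.RkEnd.Tools

open Subgroup Cfsg.Agent.OddHalf.D4.Basic Cfsg.Agent.OddHalf.D4.CommConj

universe u

variable {G : Type u} [Group G]

/-- a subgroup `Y` of `X` such that products of two elements of `X ∖ Y` are in `Y` -/
theorem card_le_two_mul [Finite G] {X Y : Subgroup G} (hYX : Y ≤ X)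
    (h : ∀ x ∈ X, x ∉ Y → ∀ y ∈ X, y ∉ Y → x * y ∈ Y) : Nat.card X ≤ 2 * Nat.card Y := by
  by_cases hXY : X ≤ Y
  · have := Subgroup.card_le_of_le hXY
    omega
  obtain ⟨a, ha, haY⟩ := SetLike.not_le_iff_exists.mp hXY
  have h1 : (Y.subgroupOf X).index = 2 := by
    rw [Subgroup.index_eq_two_iff]
    refine ⟨⟨a, ha⟩, ?_⟩
    rintro ⟨b, hb⟩
    rw [mem_subgroupOf, mem_subgroupOf]
    show Xor (b * a ∈ Y) (b ∈ Y)
    by_cases hbY : b ∈ Y
    · right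
      refine ⟨hbY, fun h2 => haY ?_⟩
      have := mul_mem (inv_mem hbY) h2
      rwa [inv_mul_cancel_left] at this
    · left
      exact ⟨h b hb hbY a ha haY, hbY⟩
  have h2 : Y.relIndex X = 2 := h1
  have h3 := card_mul_relIndex hYX
  rw [h2] at h3
  omega

/-- extremal conjugation: `w ∈ S` conjugate to an element `z` centralizing the Sylow 2-subgroup `S` -/
theorem extremal [Finite G] {S : Subgroup G} (hS : IsSyl S ⊤) {w z g₀ : G} (hz : g₀ * w * g₀⁻¹ = z)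
    (hzS : ∀ s ∈ S, s * z = z * s) :
    ∃ g : G, g * w * g⁻¹ = z ∧ ∀ s ∈ S, s * w = w * s → g * s * g⁻¹ ∈ S := by
  have hSz : IsSyl S (centralizer ({z} : Set G)) :=
    hS.mono (fun s hs => mem_cent1.mpr (hzS s hs)) le_top
  have h2 : IsPGroup 2 (cj g₀ (S ⊓ centralizer ({w} : Set G)) : Subgroup G) :=
    isPGroup_cj (hS.two.to_le inf_le_left)
  have h3 : cj g₀ (S ⊓ centralizer ({w} : Set G)) ≤ centralizer ({z} : Set G) := by
    rintro _ ⟨s, hs, rfl⟩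
    rw [mem_cent1]
    have h4 := mem_cent1.mp hs.2
    show g₀ * s * g₀⁻¹ * z = z * (g₀ * s * g₀⁻¹)
    rw [← hz]
    calc g₀ * s * g₀⁻¹ * (g₀ * w * g₀⁻¹) = g₀ * (s * w) * g₀⁻¹ := by group
      _ = g₀ * (w * s) * g₀⁻¹ := by rw [h4]
      _ = g₀ * w * g₀⁻¹ * (g₀ * s * g₀⁻¹) := by group
  obtain ⟨m, hm, hmS⟩ := hSz.conj_into h2 h3
  refine ⟨m * g₀, ?_, ?_⟩
  · calc m * g₀ * w * (m * g₀)⁻¹ = m * (g₀ * w * g₀⁻¹) * m⁻¹ := by group
      _ = m * z * m⁻¹ := by rw [hz]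
      _ = z := conj_eq_iff_comm.mpr (mem_cent1.mp hm)
  · intro s hs hsw
    have h5 := hmS (g₀ * s * g₀⁻¹) ⟨s, ⟨hs, mem_cent1.mpr hsw⟩, rfl⟩
    have h6 : m * g₀ * s * (m * g₀)⁻¹ = m * (g₀ * s * g₀⁻¹) * m⁻¹ := by group
    rw [h6]
    exact h5

/-- the 2-part is an odd power -/
theorem exists_odd_pow [Finite G] (t : G) : ∃ m k : ℕ, Odd m ∧ (t ^ m) ^ 2 ^ k = 1 := by
  obtain ⟨k, m, hm, hkm⟩ := Nat.exists_eq_two_pow_mul_odd (orderOf_pos t).ne'
  refine ⟨m, k, hm, ?_⟩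
  rw [← pow_mul, mul_comm m, ← hkm, pow_orderOf_eq_one]

theorem isPGroup_zpowers {t : G} {k : ℕ} (h : t ^ 2 ^ k = 1) : IsPGroup 2 (zpowers t) := by
  rintro ⟨x, hx⟩
  obtain ⟨n, rfl⟩ := mem_zpowers_iff.mp hx
  refine ⟨k, ?_⟩
  apply Subtype.ext
  show (t ^ n) ^ 2 ^ k = 1
  rw [← zpow_natCast, ← zpow_mul, mul_comm, zpow_mul, zpow_natCast, h, one_zpow]

theorem elem_cj {A : Subgroup G} (h : ∀ a ∈ A, a * a = 1) (g : G) : ∀ a ∈ cj g A, a * a = 1 := by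
  intro a ha
  rw [mem_cj] at ha
  have h1 := h _ ha
  have h2 : a * a = g * (g⁻¹ * a * g * (g⁻¹ * a * g)) * g⁻¹ := by group
  rw [h2, h1]
  group

theorem orderOf_two_of {a : G} (h : a * a = 1) (h1 : a ≠ 1) : orderOf a = 2 := by
  rw [orderOf_eq_prime_iff]
  exact ⟨by rw [pow_two]; exact h, h1⟩

theorem mul_self_of {a : G} (h : orderOf a = 2) : a * a = 1 := by
  have := pow_orderOf_eq_one a
  rwa [h, pow_two] at this

theorem mem_normalizer_of_le [Finite G] {t : G} {P : Subgroup G} (h : ∀ x ∈ P, t * x * t⁻¹ ∈ P) :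
    t ∈ normalizer (P : Set G) := by
  apply mem_normalizer_of_cj_eq
  apply Subgroup.eq_of_le_of_card_ge
  · rintro _ ⟨x, hx, rfl⟩
    exact h x hx
  · rw [card_cj]

theorem conj_mem_of_mem_normalizer {t x : G} {P : Subgroup G} (h : t ∈ normalizer (P : Set G))
    (hx : x ∈ P) : t * x * t⁻¹ ∈ P := (mem_normalizer_iff.mp h x).mp hx

/-- powers of an element moving `p` to `p b` -/
theorem pow_move {t p b : G} (h : t * p * t⁻¹ = p * b) (hb : t * b = b * t) (n : ℕ) :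
    t ^ n * p * (t ^ n)⁻¹ = p * b ^ n := by
  induction n with
  | zero => simp
  | succ n ih =>
    have h1 : t * b ^ n * t⁻¹ = b ^ n := conj_eq_iff_comm.mpr (Commute.pow_right hb n)
    calc t ^ (n + 1) * p * (t ^ (n + 1))⁻¹ = t * (t ^ n * p * (t ^ n)⁻¹) * t⁻¹ := by
          rw [pow_succ']; group
      _ = t * (p * b ^ n) * t⁻¹ := by rw [ih]
      _ = (t * p * t⁻¹) * (t * b ^ n * t⁻¹) := by group
      _ = p * b ^ (n + 1) := by rw [h, h1, pow_succ']; group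

theorem pow_odd {b : G} (h : b * b = 1) {n : ℕ} (hn : Odd n) : b ^ n = b := by
  obtain ⟨k, rfl⟩ := hn
  rw [pow_succ, pow_mul, pow_two, h, one_pow, one_mul]

end Cfsg.Agent.OddHalf.D4.RkEnd.Tools
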