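import Mathlib
import Cfsg.Agent.OddHalf.D4.RkEnd.Tools2

/-!
# ODD, D4, rank one ends: involutions centralizing the root group

`P ⊴ S` elementary abelian of order `q ≥ 8`, every element of `P` fused to one of `P ∩ Z(S)`, elements
of `S` not centralizing `P` fix less than `q / 2` points of `P`. Then no involution of `C_S(P) ∖ P`
is conjugate into `P`, as its conjugates under `C_G(P)` would give a transvection of `P` in `N_G(P)`.
-/

set_option autoImplicit false

namespace Cfsg.Agent.OddHalf.D4.RkEnd.TR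

open Subgroup Cfsg.Agent.OddHalf.D4.Basic Cfsg.Agent.OddHalf.D4.CommConj
open Cfsg.Agent.OddHalf.D4.RkEnd.Tools

universe u

variable {G : Type u} [Group G]

/-- the involutions of `G` conjugate into `P` -/
def Conj (P : Subgroup G) (w : G) : Prop := orderOf w = 2 ∧ ∃ g : G, g * w * g⁻¹ ∈ P

/-- the hypothesis; `T2 = C_S(P)` -/
structure Hyp (S P : Subgroup G) (q : ℕ) : Prop where
  syl : IsSyl S ⊤
  le : P ≤ S
  norm : S ≤ normalizer (P : Set G)
  elem : ∀ a ∈ P, a * a = 1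
  card : Nat.card P = q
  q8 : 8 ≤ q
  toZ : ∀ p ∈ P, p ≠ 1 → ∃ g : G, g * p * g⁻¹ ∈ P ∧ ∀ s ∈ S, s * (g * p * g⁻¹) = (g * p * g⁻¹) * s
  few : ∀ s ∈ S, s ∉ centralizer (P : Set G) → 2 * Nat.card (P ⊓ centralizer ({s} : Set G) : Subgroup G) < q
  out : ∀ x ∈ S, ∀ y ∈ S, x ∉ centralizer (P : Set G) → y ∉ centralizer (P : Set G) → orderOf x = 2 →
    orderOf y = 2 → x * y = y * x → x * y ∈ centralizer (P : Set G)
  inn : ∀ x ∈ S, ∀ y ∈ S, x ∈ centralizer (P : Set G) → y ∈ centralizer (P : Set G) → x ∉ P → y ∉ P →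
    Conj P x → Conj P y → x * y = y * x → x * y ∈ P
  move : ∀ w ∈ S, w ∈ centralizer (P : Set G) → w ∉ P → Conj P w → ∀ p ∈ P,
    ∃ t ∈ centralizer (P : Set G), t * w * t⁻¹ = w * p

variable {S P : Subgroup G} {q : ℕ}

theorem Conj.cj {w g : G} (h : Conj P w) : Conj P (g * w * g⁻¹) := by
  obtain ⟨h1, x, hx⟩ := h
  refine ⟨by rw [orderOf_conj, h1], x * g⁻¹, ?_⟩
  have : x * g⁻¹ * (g * w * g⁻¹) * (x * g⁻¹)⁻¹ = x * w * x⁻¹ := by group
  rwa [this]

/-- `w ∈ S` conjugate into `P` is conjugate to an element `z` of `P ∩ Z(S)` by `g` with `C_S(w)^g ≤ S` -/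
theorem exists_ext [Finite G] (hS : IsSyl S ⊤)
    (toZ : ∀ p ∈ P, p ≠ 1 → ∃ g : G, g * p * g⁻¹ ∈ P ∧ ∀ s ∈ S, s * (g * p * g⁻¹) = (g * p * g⁻¹) * s)
    {w : G} (hc : Conj P w) :
    ∃ g : G, g * w * g⁻¹ ∈ P ∧ (∀ s ∈ S, s * (g * w * g⁻¹) = (g * w * g⁻¹) * s) ∧
      ∀ s ∈ S, s * w = w * s → g * s * g⁻¹ ∈ S := by
  obtain ⟨h2, x, hx⟩ := hc
  have h3 : x * w * x⁻¹ ≠ 1 := by
    intro h4
    have := orderOf_conj x w
    rw [h4, orderOf_one, h2] at this
    omega
  obtain ⟨y, hy, hyS⟩ := toZ _ hx h3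
  obtain ⟨g, hg, hgS⟩ := extremal hS (w := w) (z := y * (x * w * x⁻¹) * y⁻¹) (g₀ := y * x)
    (by group) hyS
  rw [← hg] at hy hyS
  exact ⟨g, hy, hyS, hgS⟩

theorem Hyp.main [Finite G] (h : Hyp S P q) {w : G} (hwS : w ∈ S) (hwc : w ∈ centralizer (P : Set G))
    (hwP : w ∉ P) (hw : Conj P w) : False := by
  obtain ⟨g, hgP, hgZ, hgS⟩ := exists_ext h.syl h.toZ hw
  set p : G := g * w * g⁻¹ with hp
  have hw22 : w * w = 1 := mul_self_of hw.1
  have hPw : ∀ c ∈ P, c * w = w * c := fun c hc => (mem_cent.mp hwc c hc).symm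
  have hPT : P ≤ centralizer (P : Set G) := by
    intro a ha
    rw [mem_cent]
    intro b hb
    exact comm_of_elem h.elem ha hb
  let B : Subgroup G := ext P w hw22 hPw
  have hBelem : ∀ b ∈ B, b * b = 1 := ext_elem h.elem
  have hBcard : Nat.card B = 2 * q := by rw [← h.card]; exact card_ext hwP
  have hwB : w ∈ B := self_mem_ext
  have hPB : P ≤ B := le_ext
  have hBS : B ≤ S := ext_le h.le hwS
  have hBw : ∀ b ∈ B, b * w = w * b := fun b hb => comm_of_elem hBelem hb hwB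
  have hBconj : ∀ b ∈ B, b ≠ 1 → Conj P b := by
    intro b hb hb1
    rcases hb with hb | hb
    · refine ⟨orderOf_two_of (h.elem b hb) hb1, 1, ?_⟩
      simpa using hb
    · obtain ⟨t, -, ht⟩ := h.move w hwS hwc hwP hw (w * b) hb
      have e : w * (w * b) = b := by rw [← mul_assoc, hw22, one_mul]
      rw [e] at ht
      rw [← ht]
      exact hw.cj
  set E : Subgroup G := cj g B with hE
  have hEelem : ∀ b ∈ E, b * b = 1 := elem_cj hBelem g
  have hEcard : Nat.card E = 2 * q := by rw [hE, card_cj, hBcard]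
  have hES : E ≤ S := by
    rintro _ ⟨b, hb, rfl⟩
    exact hgS b (hBS hb) (hBw b hb)
  have hEconj : ∀ b ∈ E, b ≠ 1 → Conj P b := by
    rintro _ ⟨b, hb, rfl⟩ hb1
    have hb1' : b ≠ 1 := by
      rintro rfl
      exact hb1 (by simp)
    exact (hBconj b hb hb1').cj
  have hEcomm : ∀ a ∈ E, ∀ b ∈ E, a * b = b * a := fun a ha b hb => comm_of_elem hEelem ha hb
  -- `|E : E ∩ T₂| ≤ 2`
  have hne : ∀ {X : Subgroup G} {a : G}, a ∉ X → a ≠ 1 := by
    rintro X a ha rfl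
    exact ha (one_mem _)
  have h1 : Nat.card E ≤ 2 * Nat.card (E ⊓ centralizer (P : Set G) : Subgroup G) := by
    apply card_le_two_mul inf_le_left
    intro x hx hx' y hy hy'
    have hx2 : x ∉ centralizer (P : Set G) := fun h1 => hx' ⟨hx, h1⟩
    have hy2 : y ∉ centralizer (P : Set G) := fun h1 => hy' ⟨hy, h1⟩
    exact ⟨mul_mem hx hy, h.out x (hES hx) y (hES hy) hx2 hy2
      (orderOf_two_of (hEelem x hx) (hne hx2)) (orderOf_two_of (hEelem y hy) (hne hy2)) (hEcomm x hx y hy)⟩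
  have h2 : Nat.card (E ⊓ centralizer (P : Set G) : Subgroup G) ≤ 2 * Nat.card (E ⊓ P : Subgroup G) := by
    apply card_le_two_mul (inf_le_inf_left _ hPT)
    intro x hx hx' y hy hy'
    have hx2 : x ∉ P := fun h1 => hx' ⟨hx.1, h1⟩
    have hy2 : y ∉ P := fun h1 => hy' ⟨hy.1, h1⟩
    exact ⟨mul_mem hx.1 hy.1, h.inn x (hES hx.1) y (hES hy.1) hx.2 hy.2 hx2 hy2
      (hEconj x hx.1 (hne hx2)) (hEconj y hy.1 (hne hy2)) (hEcomm x hx.1 y hy.1)⟩
  have hET : E ≤ centralizer (P : Set G) := by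
    by_contra hcon
    obtain ⟨s, hs, hsT⟩ := SetLike.not_le_iff_exists.mp hcon
    have h3 := h.few s (hES hs) hsT
    have h4 : E ⊓ P ≤ P ⊓ centralizer ({s} : Set G) :=
      fun a ha => ⟨ha.2, mem_cent1.mpr (hEcomm a ha.1 s hs)⟩
    have h5 := Subgroup.card_le_of_le h4
    omega
  have hPE : P ≤ E := by
    rw [inf_eq_left.mpr hET, hEcard] at h2
    have h3 : E ⊓ P = P := Subgroup.eq_of_le_of_card_ge inf_le_right (by rw [h.card]; omega)
    rw [← h3]
    exact inf_le_left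
  have hgPE : cj g P ≤ E := cj_mono hPB
  -- `D = P ∩ P^g`
  set D : Subgroup G := P ⊓ cj g P with hD
  have hDP : D ≤ P := inf_le_left
  have hDc : q ≤ 2 * Nat.card D := by
    have h3 := card_inf_ge hPE hgPE
    rw [card_cj, h.card, hEcard] at h3
    have h4 : 0 < q := lt_of_lt_of_le (by norm_num) h.q8
    have h5 : q * q ≤ q * (2 * Nat.card D) := by
      calc q * q ≤ 2 * q * Nat.card D := h3
        _ = q * (2 * Nat.card D) := by ring
    exact Nat.le_of_mul_le_mul_left h5 h4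
  have hpP : p ∉ cj g P := by
    rw [mem_cj]
    have : g⁻¹ * p * g = w := by rw [hp]; group
    rw [this]
    exact hwP
  have hpD : p ∉ D := fun h1 => hpP h1.2
  have hDPc : Nat.card P ≤ 2 * Nat.card D := by rw [h.card]; exact hDc
  have hq8 := h.q8
  obtain ⟨b, hb, hb1⟩ : ∃ b ∈ D, b ≠ 1 := by
    by_contra hcon
    push Not at hcon
    have h3 : D = ⊥ := (Subgroup.eq_bot_iff_forall D).mpr hcon
    rw [h3, Subgroup.card_bot] at hDc
    omega
  -- the transvection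
  obtain ⟨t, htc, htp⟩ : ∃ t : G, (∀ c ∈ D, t * c = c * t) ∧ t * p * t⁻¹ = p * b := by
    have hb2 : g⁻¹ * b * g ∈ P := mem_cj.mp hb.2
    obtain ⟨t, ht, htw⟩ := h.move w hwS hwc hwP hw _ hb2
    refine ⟨g * t * g⁻¹, ?_, ?_⟩
    · intro c hc
      have h3 := mem_cent.mp ht _ (mem_cj.mp hc.2)
      calc g * t * g⁻¹ * c = g * (t * (g⁻¹ * c * g)) * g⁻¹ := by group
        _ = g * ((g⁻¹ * c * g) * t) * g⁻¹ := by rw [h3]
        _ = c * (g * t * g⁻¹) := by group
    · calc g * t * g⁻¹ * p * (g * t * g⁻¹)⁻¹ = g * (t * w * t⁻¹) * g⁻¹ := by rw [hp]; group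
        _ = g * (w * (g⁻¹ * b * g)) * g⁻¹ := by rw [htw]
        _ = p * b := by rw [hp]; group
  have hpmul : ∀ x ∈ P, x ∉ D → p * x ∈ D := fun x hx hxD =>
    mul_mem_of_card hDP hDPc hgP hpD hx hxD
  have hp2 : p * p = 1 := h.elem p hgP
  have htN : ∀ n : ℕ, t ^ n ∈ normalizer (P : Set G) := by
    intro n
    apply pow_mem
    apply mem_normalizer_of_le
    intro x hx
    by_cases hxD : x ∈ D
    · rw [conj_eq_iff_comm.mpr (htc x hxD)]
      exact hx
    · have h3 := hpmul x hx hxD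
      have h4 : t * x * t⁻¹ = (p * b) * (p * x) := by
        have e : x = p * (p * x) := by rw [← mul_assoc, hp2, one_mul]
        calc t * x * t⁻¹ = t * (p * (p * x)) * t⁻¹ := by rw [← e]
          _ = (t * p * t⁻¹) * (t * (p * x) * t⁻¹) := by group
          _ = (p * b) * (p * x) := by rw [htp, conj_eq_iff_comm.mpr (htc _ h3)]
      rw [h4]
      exact mul_mem (mul_mem hgP (hDP hb)) (hDP h3)
  obtain ⟨m, k, hm, hk⟩ := exists_odd_pow t
  have htp' : t ^ m * p * (t ^ m)⁻¹ = p * b := by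
    rw [pow_move htp (htc b hb), pow_odd (h.elem b (hDP hb)) hm]
  have htc' : ∀ c ∈ D, t ^ m * c = c * t ^ m := fun c hc =>
    (Commute.pow_left (htc c hc : Commute t c) m)
  have hSN : IsSyl S (normalizer (P : Set G)) := h.syl.mono h.norm le_top
  obtain ⟨n, hn, hnS⟩ := hSN.conj_into (isPGroup_zpowers hk) (zpowers_le.mpr (htN m))
  have hs := hnS _ (mem_zpowers (t ^ m))
  set s : G := n * t ^ m * n⁻¹ with hsdef
  have hsP : s ∉ centralizer (P : Set G) := by
    intro h3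
    have h4 := mem_cent.mp h3 _ (conj_mem_of_mem_normalizer hn hgP)
    have h5 : t ^ m * p = p * t ^ m := by
      calc t ^ m * p = n⁻¹ * (s * (n * p * n⁻¹)) * n := by rw [hsdef]; group
        _ = n⁻¹ * ((n * p * n⁻¹) * s) * n := by rw [h4]
        _ = p * t ^ m := by rw [hsdef]; group
    rw [conj_eq_iff_comm.mpr h5] at htp'
    exact hb1 (by simpa using htp'.symm)
  have h3 := h.few s hs hsP
  have h4 : cj n D ≤ P ⊓ centralizer ({s} : Set G) := by
    rintro _ ⟨c, hc, rfl⟩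
    refine Subgroup.mem_inf.mpr ⟨conj_mem_of_mem_normalizer hn (hDP hc), mem_cent1.mpr ?_⟩
    show n * c * n⁻¹ * s = s * (n * c * n⁻¹)
    calc n * c * n⁻¹ * s = n * (c * t ^ m) * n⁻¹ := by rw [hsdef]; group
      _ = n * (t ^ m * c) * n⁻¹ := by rw [htc' c hc]
      _ = s * (n * c * n⁻¹) := by rw [hsdef]; group
  have h5 := Subgroup.card_le_of_le h4
  rw [card_cj] at h5
  omega

end Cfsg.Agent.OddHalf.D4.RkEnd.TR
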