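import Mathlib
import Cfsg.Agent.OddHalf.D4.RkEnd.TR

/-!
# ODD, D4, rank one ends: involutions acting as field automorphisms on the root group

`P ⊴ S` elementary abelian of order `q₀²`, `T₂ = C_S(P)`, `S / T₂` acts like a cyclic group of field
automorphisms. Involutions `w ∈ S ∖ T₂` conjugate into `P` have `C_P(w) = P₀` of order `q₀`,
`[w, P] = P₀` and `P₀ ≤ (C_{C_S(P₀)}(w))'`. Then there is none, and `P` is strongly closed in `S`
as soon as no involution of `T₂ ∖ P` is conjugate into `P`.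
-/

set_option autoImplicit false

namespace Cfsg.Agent.OddHalf.D4.RkEnd.DG

open Subgroup Cfsg.Agent.OddHalf.D4.Basic Cfsg.Agent.OddHalf.D4.CommConj
open Cfsg.Agent.OddHalf.D4.RkEnd.Tools Cfsg.Agent.OddHalf.D4.RkEnd.TR
open scoped commutatorElement

universe u

variable {G : Type u} [Group G]

/-- an involution of `S ∖ C_S(P)` conjugate into `P` -/
structure Bad (S P : Subgroup G) (w : G) : Prop where
  mem : w ∈ S
  notCent : w ∉ centralizer (P : Set G)
  conj : Conj P w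

/-- the hypothesis; `T₂ = C_S(P)` -/
structure Hyp (S P P0 : Subgroup G) (q0 : ℕ) : Prop where
  syl : IsSyl S ⊤
  le : P ≤ S
  norm : S ≤ normalizer (P : Set G)
  elem : ∀ a ∈ P, a * a = 1
  card0 : Nat.card P0 = q0
  q4 : 4 ≤ q0
  toZ : ∀ p ∈ P, p ≠ 1 → ∃ g : G, g * p * g⁻¹ ∈ P ∧ ∀ s ∈ S, s * (g * p * g⁻¹) = (g * p * g⁻¹) * s
  wcT : ∀ x : G, S ⊓ centralizer (P : Set G) ≤ cj x S → cj x P = P
  comm : ∀ x ∈ S, ∀ y ∈ S, x * y * x⁻¹ * y⁻¹ ∈ centralizer (P : Set G)
  inv : ∀ x ∈ S, ∀ y ∈ S, x ∉ centralizer (P : Set G) → y ∉ centralizer (P : Set G) →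
    x * x ∈ centralizer (P : Set G) → y * y ∈ centralizer (P : Set G) → x * y ∈ centralizer (P : Set G)
  few : ∀ s ∈ S, s ∉ centralizer (P : Set G) → Nat.card (P ⊓ centralizer ({s} : Set G) : Subgroup G) ≤ q0
  fix : ∀ w, Bad S P w → P ⊓ centralizer ({w} : Set G) = P0
  move : ∀ w, Bad S P w → ∀ b ∈ P0, ∃ p ∈ P, p * w * p⁻¹ = w * b
  der : ∀ w, Bad S P w → P0 ≤ ⁅S ⊓ centralizer (P0 : Set G) ⊓ centralizer ({w} : Set G),
    S ⊓ centralizer (P0 : Set G) ⊓ centralizer ({w} : Set G)⁆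
  none : ∀ w ∈ S, w ∈ centralizer (P : Set G) → Conj P w → w ∈ P

variable {S P P0 : Subgroup G} {q0 : ℕ}

theorem Hyp.le0 (h : Hyp S P P0 q0) {w : G} (hw : Bad S P w) : P0 ≤ P := by
  rw [← h.fix w hw]
  exact inf_le_left

theorem Hyp.comm0 (h : Hyp S P P0 q0) {w : G} (hw : Bad S P w) : ∀ c ∈ P0, c * w = w * c := by
  intro c hc
  rw [← h.fix w hw] at hc
  exact mem_cent1.mp hc.2

theorem Bad.sq {w : G} (hw : Bad S P w) : w * w = 1 := mul_self_of hw.conj.1

theorem Hyp.P_cent (h : Hyp S P P0 q0) : P ≤ centralizer (P : Set G) := by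
  intro a ha
  rw [mem_cent]
  intro b hb
  exact comm_of_elem h.elem ha hb

theorem Hyp.notMem (h : Hyp S P P0 q0) {w : G} (hw : Bad S P w) : w ∉ P :=
  fun h1 => hw.notCent (h.P_cent h1)

/-- the group `⟨w⟩ P₀` -/
def Hyp.B (h : Hyp S P P0 q0) {w : G} (hw : Bad S P w) : Subgroup G := ext P0 w hw.sq (h.comm0 hw)

theorem Hyp.B_elem (h : Hyp S P P0 q0) {w : G} (hw : Bad S P w) : ∀ b ∈ h.B hw, b * b = 1 :=
  ext_elem (fun c hc => h.elem c (h.le0 hw hc))

theorem Hyp.B_card [Finite G] (h : Hyp S P P0 q0) {w : G} (hw : Bad S P w) :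
    Nat.card (h.B hw) = 2 * q0 := by
  have h1 : Nat.card (h.B hw) = 2 * Nat.card P0 := card_ext (fun h1 => h.notMem hw (h.le0 hw h1))
  rw [h1, h.card0]

theorem Hyp.B_comm (h : Hyp S P P0 q0) {w : G} (hw : Bad S P w) {a b : G} (ha : a ∈ h.B hw)
    (hb : b ∈ h.B hw) : a * b = b * a := comm_of_elem (h.B_elem hw) ha hb

theorem Hyp.w_mem (h : Hyp S P P0 q0) {w : G} (hw : Bad S P w) : w ∈ h.B hw := self_mem_ext

theorem Hyp.P0_le (h : Hyp S P P0 q0) {w : G} (hw : Bad S P w) : P0 ≤ h.B hw := le_ext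

/-- an element centralizing `P₀` and moving `w` to `w b`, `b ∈ P₀`, normalizes `B` -/
theorem Hyp.norm_B [Finite G] (h : Hyp S P P0 q0) {w : G} (hw : Bad S P w) {p b : G} (hp : p ∈ P)
    (hb : b ∈ P0) (hpw : p * w * p⁻¹ = w * b) : p ∈ normalizer (h.B hw : Set G) := by
  apply mem_normalizer_of_le
  intro x hx
  have h1 : ∀ c ∈ P0, p * c * p⁻¹ = c := fun c hc =>
    conj_eq_iff_comm.mpr (comm_of_elem h.elem hp (h.le0 hw hc))
  rcases hx with hx | hx
  · rw [h1 x hx]
    exact h.P0_le hw hx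
  · have e : p * x * p⁻¹ = (w * b) * (w * x) := by
      calc p * x * p⁻¹ = p * ((w * w) * x) * p⁻¹ := by rw [hw.sq, one_mul]
        _ = (p * w * p⁻¹) * (p * (w * x) * p⁻¹) := by group
        _ = (w * b) * (w * x) := by rw [hpw, h1 _ hx]
    rw [e]
    exact mul_mem (mul_mem (h.w_mem hw) (h.P0_le hw hb)) (h.P0_le hw hx)

/-- **no conjugate of `B = ⟨w⟩ P₀` lies in `P`** -/
theorem Hyp.noCj [Finite G] (h : Hyp S P P0 q0) {w : G} (hw : Bad S P w) (g : G)
    (hB : cj g (h.B hw) ≤ P) : False := by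
  set E : Subgroup G := cj g (h.B hw) with hE
  have hEc : Nat.card E = 2 * q0 := by rw [hE, card_cj, h.B_card hw]
  have hq4 := h.q4
  set T : Subgroup G := S ⊓ centralizer (P : Set G) with hT
  set C : Subgroup G := centralizer (E : Set G) with hC
  have hTC : T ≤ C := by
    intro t ht
    rw [mem_cent]
    intro e he
    exact mem_cent.mp ht.2 e (hB he)
  have hTsyl : IsSyl T C := by
    obtain ⟨R, hR, hTR⟩ := exists_isSyl (h.syl.two.to_le (inf_le_left : T ≤ S)) hTC
    obtain ⟨x, -, hx⟩ := exists_le_cj h.syl hR.two le_top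
    have hxP := h.wcT x (hTR.trans hx)
    have h1 : cj x⁻¹ R ≤ T := by
      intro s hs
      have hsS : s ∈ S := (le_cj_iff.mp hx) hs
      refine Subgroup.mem_inf.mpr ⟨hsS, ?_⟩
      by_contra hcon
      have h2 := h.few s hsS hcon
      have h3 : cj x⁻¹ E ≤ P ⊓ centralizer ({s} : Set G) := by
        intro e he
        refine Subgroup.mem_inf.mpr ⟨?_, ?_⟩
        · have h4 := hB (mem_cj.mp he)
          rw [← hxP, mem_cj] at h4
          have h5 : x⁻¹ * (x⁻¹⁻¹ * e * x⁻¹) * x = e := by group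
          rwa [h5] at h4
        · rw [mem_cent1]
          have h4 := mem_cent.mp (hR.le (mem_cj.mp hs)) _ (mem_cj.mp he)
          rw [inv_inv] at h4
          calc e * s = x⁻¹ * ((x * e * x⁻¹) * (x * s * x⁻¹)) * x := by group
            _ = x⁻¹ * ((x * s * x⁻¹) * (x * e * x⁻¹)) * x := by rw [h4]
            _ = s * e := by group
      have h4 := Subgroup.card_le_of_le h3
      rw [card_cj, hEc] at h4
      omega
    have h2 := Subgroup.card_le_of_le h1
    rw [card_cj] at h2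
    exact IsSyl.eq_of_card_le hR (h.syl.two.to_le inf_le_left) hTC h2
  -- two elements of `P`
  obtain ⟨b1, hb1, b2, hb2, hb11, hb12⟩ : ∃ b1 ∈ P0, ∃ b2 ∈ P0, b1 ≠ 1 ∧ b1 ≠ b2 ∧ b2 ≠ 1 := by
    have h1 : 2 < Nat.card P0 := by rw [h.card0]; omega
    obtain ⟨a, ha⟩ := Subgroup.one_lt_card_iff_ne_bot P0 |>.mp (by omega) |> Subgroup.ne_bot_iff_exists_ne_one.mp
    by_contra hcon
    push Not at hcon
    have h2 : ∀ x : P0, x = 1 ∨ x = a := by
      intro x
      by_cases hx : x = a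
      · exact Or.inr hx
      · left
        have h3 := hcon a a.2 x x.2 (fun h4 => ha (Subtype.ext h4)) (fun h4 => hx (Subtype.ext h4.symm))
        exact Subtype.ext h3
    have h3 : Nat.card P0 ≤ 2 := by
      classical
      have : Fintype P0 := Fintype.ofFinite _
      rw [Nat.card_eq_fintype_card]
      have h4 : (Finset.univ : Finset P0) ⊆ {1, a} := by
        intro x _
        rcases h2 x with h5 | h5 <;> simp [h5]
      exact (Finset.card_le_card h4).trans Finset.card_le_two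
    omega
  obtain ⟨p1, hp1, hpw1⟩ := h.move w hw b1 hb1
  obtain ⟨p2, hp2, hpw2⟩ := h.move w hw b2 hb2
  set N : Subgroup G := normalizer (E : Set G) with hN
  have hn1 := h.norm_B hw hp1 hb1 hpw1
  have hn2 := h.norm_B hw hp2 hb2 hpw2
  have hU : cj g (P ⊓ normalizer (h.B hw : Set G)) ≤ N := by
    rintro _ ⟨p, hp, rfl⟩
    apply mem_normalizer_of_cj_eq
    show cj (g * p * g⁻¹) E = E
    rw [hE, ← cj_mul]
    have e : g * p * g⁻¹ * g = g * p := by group
    rw [e, cj_mul, cj_eq_of_mem_normalizer hp.2]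
  have hP2 : IsPGroup 2 P := isPGroup_of_elem h.elem
  obtain ⟨R, hR, hUR⟩ := exists_isSyl (isPGroup_cj (g := g) (hP2.to_le (inf_le_left :
    P ⊓ normalizer (h.B hw : Set G) ≤ P))) hU
  have hCN : C ≤ N := by
    intro c hc
    apply mem_normalizer_of_le
    intro e he
    rw [conj_eq_iff_comm.mpr (mem_cent.mp hc e he)]
    exact he
  have hNC : R ≤ normalizer (C : Set G) := by
    intro r hr
    have hrN : r⁻¹ ∈ N := inv_mem (hR.le hr)
    apply mem_normalizer_of_le
    intro c hc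
    rw [mem_cent]
    intro e he
    have h1 := mem_cent.mp hc _ (conj_mem_of_mem_normalizer hrN he)
    rw [inv_inv] at h1
    calc r * c * r⁻¹ * e = r * (c * (r⁻¹ * e * r)) * r⁻¹ := by group
      _ = r * ((r⁻¹ * e * r) * c) * r⁻¹ := by rw [h1]
      _ = e * (r * c * r⁻¹) := by group
  have hRC : IsSyl (R ⊓ C) C := hR.inf hCN hNC
  obtain ⟨c, hc, hcT⟩ := hTsyl.conj_into hRC.two hRC.le
  have hcT' : cj c (R ⊓ C) = T := by
    apply Subgroup.eq_of_le_of_card_ge
    · rintro _ ⟨x, hx, rfl⟩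
      exact hcT x hx
    · rw [card_cj]
      exact card_le_of_syl hRC hTsyl.two hTsyl.le
  have hcR : cj c R ≤ normalizer (P : Set G) := by
    rintro _ ⟨r, hr, rfl⟩
    show c * r * c⁻¹ ∈ normalizer (P : Set G)
    have h1 : cj r (R ⊓ C) = R ⊓ C := by
      rw [cj_inf, cj_eq_of_mem_normalizer (hNC hr), cj_eq_of_mem_normalizer (le_normalizer hr)]
    have h2 : cj (c * r * c⁻¹) T = T := by
      rw [← hcT', ← cj_mul]
      have e : c * r * c⁻¹ * c = c * r := by group
      rw [e, cj_mul, h1]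
    apply mem_normalizer_of_cj_eq
    apply h.wcT
    show T ≤ cj (c * r * c⁻¹) S
    rw [← h2]
    exact cj_mono inf_le_left
  have hSN : IsSyl S (normalizer (P : Set G)) := h.syl.mono h.norm le_top
  obtain ⟨y, hy, hyS⟩ := hSN.conj_into (isPGroup_cj (g := c) hR.two) hcR
  -- the elements `s_i`
  have hs : ∀ p ∈ P, p ∈ normalizer (h.B hw : Set G) → (y * c * g) * p * (y * c * g)⁻¹ ∈ S := by
    intro p hp hpn
    have h1 : g * p * g⁻¹ ∈ R := hUR ⟨p, ⟨hp, hpn⟩, rfl⟩
    have h2 := hyS (c * (g * p * g⁻¹) * c⁻¹) ⟨_, h1, rfl⟩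
    have e : (y * c * g) * p * (y * c * g)⁻¹ = y * (c * (g * p * g⁻¹) * c⁻¹) * y⁻¹ := by group
    rw [e]
    exact h2
  have hwP : (y * c * g) * w * (y * c * g)⁻¹ ∈ P := by
    have h1 : g * w * g⁻¹ ∈ E := mem_cj_mul (h.w_mem hw)
    have h2 : c * (g * w * g⁻¹) * c⁻¹ = g * w * g⁻¹ := conj_eq_iff_comm.mpr (mem_cent.mp hc _ h1)
    have e : (y * c * g) * w * (y * c * g)⁻¹ = y * (c * (g * w * g⁻¹) * c⁻¹) * y⁻¹ := by group
    rw [e, h2]
    exact conj_mem_of_mem_normalizer hy (hB h1)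
  set z : G := y * c * g with hz
  have hnc : ∀ p b : G, b ≠ 1 → p * w * p⁻¹ = w * b → z * p * z⁻¹ ∉ centralizer (P : Set G) := by
    intro p b hb hpw h1
    have h2 := mem_cent.mp h1 _ hwP
    have h3 : p * w = w * p := by
      calc p * w = z⁻¹ * ((z * p * z⁻¹) * (z * w * z⁻¹)) * z := by group
        _ = z⁻¹ * ((z * w * z⁻¹) * (z * p * z⁻¹)) * z := by rw [h2]
        _ = w * p := by group
    rw [conj_eq_iff_comm.mpr h3] at hpw
    exact hb (by simpa using hpw.symm)
  have hsq : ∀ p ∈ P, (z * p * z⁻¹) * (z * p * z⁻¹) ∈ centralizer (P : Set G) := by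
    intro p hp
    have : (z * p * z⁻¹) * (z * p * z⁻¹) = 1 := by
      calc (z * p * z⁻¹) * (z * p * z⁻¹) = z * (p * p) * z⁻¹ := by group
        _ = 1 := by rw [h.elem p hp]; group
    rw [this]
    exact one_mem _
  have h1 := h.inv _ (hs p1 hp1 hn1) _ (hs p2 hp2 hn2) (hnc p1 b1 hb11 hpw1) (hnc p2 b2 hb12.2 hpw2)
    (hsq p1 hp1) (hsq p2 hp2)
  have e : z * p1 * z⁻¹ * (z * p2 * z⁻¹) = z * (p1 * p2) * z⁻¹ := by group
  rw [e] at h1
  refine hnc (p1 * p2) (b1 * b2) ?_ ?_ h1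
  · intro h2
    apply hb12.1
    have h3 := h.elem b2 (h.le0 hw hb2)
    calc b1 = (b1 * b2) * b2 := by rw [mul_assoc, h3, mul_one]
      _ = b2 := by rw [h2, one_mul]
  · have h3 : p1 * b2 * p1⁻¹ = b2 := conj_eq_iff_comm.mpr (comm_of_elem h.elem hp1 (h.le0 hw hb2))
    calc p1 * p2 * w * (p1 * p2)⁻¹ = p1 * (p2 * w * p2⁻¹) * p1⁻¹ := by group
      _ = p1 * (w * b2) * p1⁻¹ := by rw [hpw2]
      _ = (p1 * w * p1⁻¹) * (p1 * b2 * p1⁻¹) := by group
      _ = w * (b1 * b2) := by rw [hpw1, h3]; group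

theorem Bad.cj {w s : G} (h : Hyp S P P0 q0) (hw : Bad S P w) (hs : s ∈ S) : Bad S P (s * w * s⁻¹) := by
  refine ⟨mul_mem (mul_mem hs hw.mem) (inv_mem hs), ?_, hw.conj.cj⟩
  intro h1
  apply hw.notCent
  rw [mem_cent] at h1 ⊢
  intro p hp
  have h2 := h1 (s * p * s⁻¹) (conj_mem_of_mem_normalizer (h.norm hs) hp)
  calc w * p = s⁻¹ * (s * w * s⁻¹ * (s * p * s⁻¹)) * s := by group
    _ = s⁻¹ * (s * p * s⁻¹ * (s * w * s⁻¹)) * s := by rw [h2]
    _ = p * w := by group

theorem Hyp.norm0 (h : Hyp S P P0 q0) {w : G} (hw : Bad S P w) : S ≤ normalizer (P0 : Set G) := by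
  intro s hs
  apply mem_normalizer_of_cj_eq
  have h1 := h.fix _ (Bad.cj h hw hs)
  have h2 := h.fix w hw
  conv_lhs => rw [← h2]
  rw [cj_inf, cj_eq_of_mem_normalizer (h.norm hs)]
  refine Eq.trans ?_ h1
  ext x
  rw [mem_inf, mem_inf, mem_cj, mem_cent1, mem_cent1]
  have e1 : s⁻¹ * x * s * w = s⁻¹ * (x * (s * w * s⁻¹)) * s := by group
  have e2 : w * (s⁻¹ * x * s) = s⁻¹ * ((s * w * s⁻¹) * x) * s := by group
  rw [e1, e2]
  simp

/-- for any Sylow 2-subgroup `R` of `C_G(B)`, `B ∩ R' = P₀` -/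
theorem Hyp.der_eq [Finite G] (h : Hyp S P P0 q0) {w : G} (hw : Bad S P w) {R : Subgroup G}
    (hR : IsSyl R (centralizer (h.B hw : Set G))) : h.B hw ⊓ ⁅R, R⁆ = P0 := by
  have hCN : centralizer (P0 : Set G) ≤ normalizer (P0 : Set G) := by
    intro c hc
    apply mem_normalizer_of_le
    intro e he
    rw [conj_eq_iff_comm.mpr (mem_cent.mp hc e he)]
    exact he
  have hNC : S ≤ normalizer ((centralizer (P0 : Set G) : Subgroup G) : Set G) := by
    intro r hr
    have hrN : r⁻¹ ∈ normalizer (P0 : Set G) := inv_mem (h.norm0 hw hr)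
    apply mem_normalizer_of_le
    intro c hc
    rw [mem_cent]
    intro e he
    have h1 := mem_cent.mp hc _ (conj_mem_of_mem_normalizer hrN he)
    rw [inv_inv] at h1
    calc r * c * r⁻¹ * e = r * (c * (r⁻¹ * e * r)) * r⁻¹ := by group
      _ = r * ((r⁻¹ * e * r) * c) * r⁻¹ := by rw [h1]
      _ = e * (r * c * r⁻¹) := by group
  have hS1 : IsSyl (S ⊓ centralizer (P0 : Set G)) (centralizer (P0 : Set G)) :=
    (h.syl.mono (h.norm0 hw) le_top).inf hCN hNC
  have hR0 : R ≤ centralizer (P0 : Set G) := by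
    intro r hr
    rw [mem_cent]
    intro e he
    exact mem_cent.mp (hR.le hr) e (h.P0_le hw he)
  obtain ⟨x, hx, hxS⟩ := hS1.conj_into hR.two hR0
  have hBR : h.B hw ≤ R := by
    have h1 : h.B hw ≤ centralizer (h.B hw : Set G) := by
      intro b hb
      rw [mem_cent]
      intro c hc
      exact h.B_comm hw hb hc
    obtain ⟨m, hm, hmR⟩ := hR.conj_into (isPGroup_of_elem (h.B_elem hw)) h1
    intro b hb
    have h2 := hmR b hb
    rwa [conj_eq_iff_comm.mpr (mem_cent.mp hm b hb)] at h2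
  set w1 : G := x * w * x⁻¹ with hw1
  have hw1S : w1 ∈ S ⊓ centralizer (P0 : Set G) := hxS w (hBR (h.w_mem hw))
  have hx0 : ∀ c ∈ P0, x * c * x⁻¹ = c := fun c hc => conj_eq_iff_comm.mpr (mem_cent.mp hx c hc)
  have hw1c : w1 ∉ centralizer (P : Set G) := by
    intro h1
    have h2 : w1 ∈ P := h.none w1 hw1S.1 h1 hw.conj.cj
    apply h.noCj hw x
    rintro _ ⟨b, hb, rfl⟩
    show x * b * x⁻¹ ∈ P
    rcases hb with hb | hb
    · rw [hx0 b hb]
      exact h.le0 hw hb
    · have e : x * b * x⁻¹ = w1 * (x * (w * b) * x⁻¹) := by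
        calc x * b * x⁻¹ = x * ((w * w) * b) * x⁻¹ := by rw [hw.sq, one_mul]
          _ = w1 * (x * (w * b) * x⁻¹) := by rw [hw1]; group
      rw [e, hx0 _ hb]
      exact mul_mem h2 (h.le0 hw hb)
  have hbad1 : Bad S P w1 := ⟨hw1S.1, hw1c, hw.conj.cj⟩
  set X : Subgroup G := S ⊓ centralizer (P0 : Set G) ⊓ centralizer ({w1} : Set G) with hX
  have hRX : cj x R = X := by
    apply le_antisymm
    · rintro _ ⟨r, hr, rfl⟩
      refine Subgroup.mem_inf.mpr ⟨hxS r hr, mem_cent1.mpr ?_⟩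
      have h1 := mem_cent.mp (hR.le hr) w (h.w_mem hw)
      show x * r * x⁻¹ * w1 = w1 * (x * r * x⁻¹)
      calc x * r * x⁻¹ * w1 = x * (r * w) * x⁻¹ := by rw [hw1]; group
        _ = x * (w * r) * x⁻¹ := by rw [h1]
        _ = w1 * (x * r * x⁻¹) := by rw [hw1]; group
    · rw [le_cj_iff]
      apply hR.max
      · exact isPGroup_cj (h.syl.two.to_le (inf_le_left.trans inf_le_left))
      · rw [le_cj_iff, inv_inv]
        rintro _ ⟨r, hr, rfl⟩
        refine Subgroup.mem_inf.mpr ⟨hxS r hr, mem_cent1.mpr ?_⟩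
        have h1 := mem_cent.mp (hR.le hr) w (h.w_mem hw)
        show x * r * x⁻¹ * w1 = w1 * (x * r * x⁻¹)
        calc x * r * x⁻¹ * w1 = x * (r * w) * x⁻¹ := by rw [hw1]; group
          _ = x * (w * r) * x⁻¹ := by rw [h1]
          _ = w1 * (x * r * x⁻¹) := by rw [hw1]; group
      · intro r hr
        have hr' := mem_cj.mp hr
        rw [inv_inv] at hr'
        have h1 := mem_cent.mp hr'.1.2
        have h2 := mem_cent1.mp hr'.2
        have h3 : r * w = w * r := by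
          calc r * w = x⁻¹ * ((x * r * x⁻¹) * w1) * x := by rw [hw1]; group
            _ = x⁻¹ * (w1 * (x * r * x⁻¹)) * x := by rw [h2]
            _ = w * r := by rw [hw1]; group
        have h4 : ∀ c ∈ P0, r * c = c * r := by
          intro c hc
          have h5 := h1 c hc
          have h6 := hx0 c hc
          have h7 : x⁻¹ * c * x = c := by
            calc x⁻¹ * c * x = x⁻¹ * (x * c * x⁻¹) * x := by rw [h6]
              _ = c := by group
          calc r * c = r * (x⁻¹ * c * x) := by rw [h7]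
            _ = x⁻¹ * ((x * r * x⁻¹) * c) * x := by group
            _ = x⁻¹ * (c * (x * r * x⁻¹)) * x := by rw [h5]
            _ = (x⁻¹ * c * x) * r := by group
            _ = c * r := by rw [h7]
        rw [mem_cent]
        intro b hb
        rcases hb with hb | hb
        · exact h4 b hb
        · have h5 := h4 _ hb
          have e : b = w * (w * b) := by rw [← mul_assoc, hw.sq, one_mul]
          calc r * b = r * (w * (w * b)) := by rw [← e]
            _ = (r * w) * (w * b) := by group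
            _ = (w * r) * (w * b) := by rw [h3]
            _ = w * (r * (w * b)) := by group
            _ = w * ((w * b) * r) := by rw [h5]
            _ = b * r := by rw [← mul_assoc, ← e]
  have hder : cj x ⁅R, R⁆ = ⁅X, X⁆ := by
    show ⁅R, R⁆.map _ = _
    rw [Subgroup.map_commutator]
    show ⁅cj x R, cj x R⁆ = _
    rw [hRX]
  apply le_antisymm
  · intro b hb
    rcases hb.1 with hb1 | hb1
    · exact hb1
    · exfalso
      have h1 : x * b * x⁻¹ ∈ ⁅X, X⁆ := by
        rw [← hder]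
        exact mem_cj_mul hb.2
      have h2 : ⁅X, X⁆ ≤ centralizer (P : Set G) := by
        rw [Subgroup.commutator_le]
        intro a ha c hc
        exact h.comm a ha.1.1 c hc.1.1
      have h3 := h2 h1
      apply hw1c
      have e : x * b * x⁻¹ = w1 * (x * (w * b) * x⁻¹) := by
        calc x * b * x⁻¹ = x * ((w * w) * b) * x⁻¹ := by rw [hw.sq, one_mul]
          _ = w1 * (x * (w * b) * x⁻¹) := by rw [hw1]; group
      rw [e, hx0 _ hb1] at h3
      have h4 := mul_mem h3 (inv_mem (h.P_cent (h.le0 hw hb1)))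
      rwa [mul_inv_cancel_right] at h4
  · refine le_inf (h.P0_le hw) ?_
    intro b hb
    have h1 := h.der w1 hbad1 hb
    rw [← hX, ← hder, mem_cj] at h1
    have h6 := hx0 b hb
    have h7 : x⁻¹ * b * x = b := by
      calc x⁻¹ * b * x = x⁻¹ * (x * b * x⁻¹) * x := by rw [h6]
        _ = b := by group
    rwa [h7] at h1

/-- **`P` contains every involution of `S` conjugate into `P`** -/
theorem Hyp.main [Finite G] (h : Hyp S P P0 q0) {w : G} (hwS : w ∈ S) (hwc : Conj P w) : w ∈ P := by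
  by_cases hwT : w ∈ centralizer (P : Set G)
  · exact h.none w hwS hwT hwc
  exfalso
  have hw : Bad S P w := ⟨hwS, hwT, hwc⟩
  obtain ⟨g, hgP, hgZ, hgS⟩ := exists_ext h.syl h.toZ hwc
  set p : G := g * w * g⁻¹ with hp
  have hp0 : p ∈ P0 := by
    rw [← h.fix w hw]
    exact ⟨hgP, mem_cent1.mpr (hgZ w hwS).symm⟩
  have hBS : h.B hw ≤ S := ext_le ((h.le0 hw).trans h.le) hwS
  set E : Subgroup G := cj g (h.B hw) with hE
  have hEc : Nat.card E = 2 * q0 := by rw [hE, card_cj, h.B_card hw]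
  have hEelem : ∀ b ∈ E, b * b = 1 := elem_cj (h.B_elem hw) g
  have hES : E ≤ S := by
    rintro _ ⟨b, hb, rfl⟩
    exact hgS b (hBS hb) (h.B_comm hw hb (h.w_mem hw))
  have hne : ∀ {X : Subgroup G} {a : G}, a ∉ X → a ≠ 1 := by
    rintro X a ha rfl
    exact ha (one_mem _)
  have hBconj : ∀ b ∈ h.B hw, b ≠ 1 → Conj P b := by
    intro b hb hb1
    rcases hb with hb | hb
    · refine ⟨orderOf_two_of (h.elem b (h.le0 hw hb)) hb1, 1, ?_⟩
      simpa using h.le0 hw hb
    · obtain ⟨t, -, ht⟩ := h.move w hw (w * b) hb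
      have e : w * (w * b) = b := by rw [← mul_assoc, hw.sq, one_mul]
      rw [e] at ht
      rw [← ht]
      exact hw.conj.cj
  have hEconj : ∀ b ∈ E, b ≠ 1 → Conj P b := by
    rintro _ ⟨b, hb, rfl⟩ hb1
    have hb1' : b ≠ 1 := by
      rintro rfl
      exact hb1 (by simp)
    exact (hBconj b hb hb1').cj
  have hET : E ⊓ centralizer (P : Set G) ≤ P := by
    intro b hb
    by_cases hb1 : b = 1
    · rw [hb1]; exact one_mem _
    · exact h.none b (hES hb.1) hb.2 (hEconj b hb.1 hb1)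
  have h1 : Nat.card E ≤ 2 * Nat.card (E ⊓ centralizer (P : Set G) : Subgroup G) := by
    apply card_le_two_mul inf_le_left
    intro x hx hx' y hy hy'
    have hx2 : x ∉ centralizer (P : Set G) := fun h1 => hx' ⟨hx, h1⟩
    have hy2 : y ∉ centralizer (P : Set G) := fun h1 => hy' ⟨hy, h1⟩
    refine ⟨mul_mem hx hy, h.inv x (hES hx) y (hES hy) hx2 hy2 ?_ ?_⟩
    · rw [hEelem x hx]; exact one_mem _
    · rw [hEelem y hy]; exact one_mem _
  -- an element of `E` outside `T₂`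
  have hnot : ¬ E ≤ centralizer (P : Set G) := by
    intro h2
    exact h.noCj hw g (fun b hb => hET ⟨hb, h2 hb⟩)
  obtain ⟨w', hw'E, hw'T⟩ := SetLike.not_le_iff_exists.mp hnot
  have hw' : Bad S P w' := ⟨hES hw'E, hw'T, hEconj w' hw'E (hne hw'T)⟩
  have hEP0 : E ⊓ centralizer (P : Set G) = P0 := by
    apply Subgroup.eq_of_le_of_card_ge
    · rw [← h.fix w' hw']
      intro b hb
      exact ⟨hET hb, mem_cent1.mpr (comm_of_elem hEelem hb.1 hw'E)⟩
    · rw [h.card0]
      omega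
  have hBE : h.B hw' = E := by
    apply Subgroup.eq_of_le_of_card_ge
    · apply ext_le _ hw'E
      rw [← hEP0]
      exact inf_le_left
    · rw [hEc, h.B_card hw']
  -- Sylow subgroups of the centralizers
  obtain ⟨R, hR, -⟩ := exists_isSyl (G := G) (Q := ⊥) (M := centralizer (h.B hw : Set G))
    IsPGroup.of_bot bot_le
  have hcent : cj g (centralizer (h.B hw : Set G)) = centralizer (h.B hw' : Set G) := by
    rw [hBE]
    ext x
    rw [mem_cj, mem_cent, mem_cent]
    constructor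
    · intro h2 e he
      have h3 := h2 _ (mem_cj.mp he)
      calc x * e = g * ((g⁻¹ * x * g) * (g⁻¹ * e * g)) * g⁻¹ := by group
        _ = g * ((g⁻¹ * e * g) * (g⁻¹ * x * g)) * g⁻¹ := by rw [h3]
        _ = e * x := by group
    · intro h2 e he
      have h3 := h2 (g * e * g⁻¹) (mem_cj_mul he)
      calc g⁻¹ * x * g * e = g⁻¹ * (x * (g * e * g⁻¹)) * g := by group
        _ = g⁻¹ * ((g * e * g⁻¹) * x) * g := by rw [h3]
        _ = e * (g⁻¹ * x * g) := by group
  have hR' : IsSyl (cj g R) (centralizer (h.B hw' : Set G)) := by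
    rw [← hcent]
    exact IsSyl.cj hR g
  have h2 := h.der_eq hw hR
  have h3 := h.der_eq hw' hR'
  have hder : cj g ⁅R, R⁆ = ⁅cj g R, cj g R⁆ := by
    show ⁅R, R⁆.map _ = _
    rw [Subgroup.map_commutator]
  have h4 : cj g P0 = P0 := by
    conv_lhs => rw [← h2]
    rw [cj_inf, hder, ← hE, ← hBE, h3]
  rw [← h4, mem_cj] at hp0
  have e : g⁻¹ * p * g = w := by rw [hp]; group
  rw [e] at hp0
  exact h.notMem hw (h.le0 hw hp0)

/-- **`P` is strongly closed in `S`** -/
theorem Hyp.strong [Finite G] (h : Hyp S P P0 q0) : ∀ a ∈ P, ∀ g : G, g * a * g⁻¹ ∈ S → g * a * g⁻¹ ∈ P := by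
  intro a ha g hg
  by_cases ha1 : a = 1
  · rw [ha1]
    have : g * 1 * g⁻¹ = 1 := by group
    rw [this]
    exact one_mem _
  · refine h.main hg ⟨by rw [orderOf_conj]; exact orderOf_two_of (h.elem a ha) ha1, g⁻¹, ?_⟩
    have : g⁻¹ * (g * a * g⁻¹) * g⁻¹⁻¹ = a := by group
    rw [this]
    exact ha

end Cfsg.Agent.OddHalf.D4.RkEnd.DG
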