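import Mathlib
import Cfsg.Agent.OddHalf.D4.RkEnd.Tools2
import Cfsg.Agent.StdSz.EndClosed

/-!
# ODD, D4, rank one ends: the end

A strongly closed elementary subgroup of the nonabelian Sylow 2-subgroup `S` of a simple group
contains all involutions of `S` (S1169 and S1225). Plus: elements acting as involutions on an elementary group.
-/

set_option autoImplicit false

namespace Cfsg.Agent.OddHalf.D4.RkEnd.End

open Subgroup Cfsg.Agent.OddHalf.D4.Basic Cfsg.Agent.OddHalf.D4.CommConj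
open Cfsg.Agent.OddHalf.D4.RkEnd.Tools

universe u

variable {G : Type u} [Group G]

/-- the Sylow subgroup of Mathlib -/
def sylowOf {S : Subgroup G} (h : IsSyl S ⊤) : Sylow 2 G :=
  ⟨S, h.two, fun {Q} hQ hle => le_antisymm (h.max Q hQ hle le_top) hle⟩

theorem coe_sylowOf {S : Subgroup G} (h : IsSyl S ⊤) : ((sylowOf h : Sylow 2 G) : Subgroup G) = S := rfl

/-- in a group with a strongly embedded subgroup that is simple all involutions are conjugate -/
theorem conj_of_se [Finite G] [IsSimpleGroup G] {H : Subgroup G} (hH : Cfsg.IsStronglyEmbedded H)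
    {a b : G} (ha : orderOf a = 2) (hb : orderOf b = 2) : IsConj a b := by
  have hfact : Fact (Nat.Prime 2) := ⟨Nat.prime_two⟩
  have h2 : 2 ∣ Nat.card H := hH.2.1.two_dvd
  obtain ⟨s, hs⟩ := exists_prime_orderOf_dvd_card' 2 h2
  have hs' : orderOf (s : G) = 2 := by rw [orderOf_coe]; exact hs
  obtain ⟨u, hu, huH⟩ : ∃ u : G, orderOf u = 2 ∧ u ∉ H := by
    by_contra hcon
    push Not at hcon
    have h3 : normalClosure ({(s : G)} : Set G) ≤ H := by
      rw [normalClosure, closure_le]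
      intro x hx
      rw [Group.mem_conjugatesOfSet_iff] at hx
      obtain ⟨a, ha, hax⟩ := hx
      rw [Set.mem_singleton_iff] at ha
      subst ha
      obtain ⟨c, hc⟩ := isConj_iff.mp hax
      apply hcon
      rw [← hc]
      have : orderOf (c * (s : G) * c⁻¹) = orderOf (s : G) := (MulAut.conj c).orderOf_eq (s : G)
      rw [this, hs']
    have h4 : (normalClosure ({(s : G)} : Set G)).Normal := normalClosure_normal
    rcases h4.eq_bot_or_eq_top with h5 | h5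
    · have h6 : (s : G) ∈ normalClosure ({(s : G)} : Set G) :=
        subset_normalClosure (Set.mem_singleton _)
      rw [h5, mem_bot] at h6
      rw [h6, orderOf_one] at hs'
      omega
    · rw [h5] at h3
      exact hH.1 (top_le_iff.mp h3)
  exact (Cfsg.Agent.S1225.result H hH u hu huH s s hs' s.2 hs' s.2).2 a b ha hb

/-- **the contradiction**: `gold` is S1169 -/
theorem false_of_strong [Finite G] [IsSimpleGroup G] (gold : Cfsg.Agent.StdSz.EndClosed.Gold.{u})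
    {S A : Subgroup G} (hS : IsSyl S ⊤) (hAS : A ≤ S) (hA : ∀ a ∈ A, a * a = 1) (hne : ∃ a ∈ A, a ≠ 1)
    (hsc : ∀ a ∈ A, ∀ g : G, g * a * g⁻¹ ∈ S → g * a * g⁻¹ ∈ A)
    (hy : ∃ y ∈ S, y ∉ A ∧ y * y = 1) (hnc : ∃ a ∈ S, ∃ b ∈ S, a * b ≠ b * a) : False := by
  obtain ⟨z, hz, hz1⟩ := hne
  obtain ⟨y, hyX, hyZ, hy2⟩ := hy
  have hy1 : y ≠ 1 := by rintro rfl; exact hyZ (one_mem _)
  have hoz := orderOf_two_of (hA z hz) hz1
  have hoy := orderOf_two_of hy2 hy1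
  have hAne : A ≠ ⊥ := by
    intro h
    rw [h, mem_bot] at hz
    exact hz1 hz
  have hcomm : IsMulCommutative A :=
    ⟨⟨fun a b => Subtype.ext (comm_of_elem hA a.2 b.2)⟩⟩
  have hsc' : Cfsg.IsStronglyClosed A ((sylowOf hS : Sylow 2 G) : Subgroup G) := ⟨hAS, hsc⟩
  rcases gold (sylowOf hS) A hAne hcomm hsc' with h | ⟨H, hH⟩
  · obtain ⟨a, ha, b, hb, hab⟩ := hnc
    have h1 := h.is_comm.comm (⟨a, ha⟩ : ↥((sylowOf hS : Sylow 2 G) : Subgroup G)) ⟨b, hb⟩
    exact hab (congrArg Subtype.val h1)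
  · obtain ⟨c, hc⟩ := isConj_iff.mp (conj_of_se hH hoz hoy)
    have h1 := hsc z hz c (by rw [hc]; exact hyX)
    rw [hc] at h1
    exact hyZ h1

/-! ### Elements acting as involutions -/

section Act

variable {A : Subgroup G} {w : G}

/-- `a ↦ [w, a]` -/
def cmHom (hA : ∀ a ∈ A, a * a = 1) (hw : ∀ a ∈ A, w * a * w⁻¹ ∈ A) : A →* A where
  toFun a := ⟨w * (a : G) * w⁻¹ * (a : G)⁻¹, mul_mem (hw a a.2) (inv_mem a.2)⟩
  map_one' := by
    apply Subtype.ext
    simp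
  map_mul' a b := by
    apply Subtype.ext
    show w * ((a : G) * b) * w⁻¹ * ((a : G) * b)⁻¹ = (w * (a : G) * w⁻¹ * (a : G)⁻¹) * (w * (b : G) * w⁻¹ * (b : G)⁻¹)
    have h1 : (a : G)⁻¹ * (w * (b : G) * w⁻¹ * (b : G)⁻¹) = (w * (b : G) * w⁻¹ * (b : G)⁻¹) * (a : G)⁻¹ :=
      comm_of_elem hA (inv_mem a.2) (mul_mem (hw b b.2) (inv_mem b.2))
    calc w * ((a : G) * b) * w⁻¹ * ((a : G) * b)⁻¹
        = (w * (a : G) * w⁻¹) * ((w * (b : G) * w⁻¹ * (b : G)⁻¹) * (a : G)⁻¹) := by group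
      _ = (w * (a : G) * w⁻¹) * ((a : G)⁻¹ * (w * (b : G) * w⁻¹ * (b : G)⁻¹)) := by rw [h1]
      _ = _ := by group

theorem cmHom_apply (hA : ∀ a ∈ A, a * a = 1) (hw : ∀ a ∈ A, w * a * w⁻¹ ∈ A) (a : A) :
    ((cmHom hA hw a : A) : G) = w * (a : G) * w⁻¹ * (a : G)⁻¹ := rfl

theorem card_ker [Finite G] (hA : ∀ a ∈ A, a * a = 1) (hw : ∀ a ∈ A, w * a * w⁻¹ ∈ A) :
    Nat.card (cmHom hA hw).ker = Nat.card (A ⊓ centralizer ({w} : Set G) : Subgroup G) := by
  have h1 : (cmHom hA hw).ker = (A ⊓ centralizer ({w} : Set G)).subgroupOf A := by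
    ext a
    rw [MonoidHom.mem_ker, mem_subgroupOf, mem_inf, mem_cent1]
    constructor
    · intro h
      have h2 : w * (a : G) * w⁻¹ * (a : G)⁻¹ = 1 := congrArg Subtype.val h
      refine ⟨a.2, ?_⟩
      rw [mul_inv_eq_one, mul_inv_eq_iff_eq_mul] at h2
      exact h2.symm
    · rintro ⟨-, h⟩
      apply Subtype.ext
      show w * (a : G) * w⁻¹ * (a : G)⁻¹ = 1
      rw [mul_inv_eq_one, mul_inv_eq_iff_eq_mul]
      exact h.symm
  rw [h1]
  exact Nat.card_congr (Subgroup.subgroupOfEquivOfLe inf_le_left).toEquiv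

theorem range_le (hA : ∀ a ∈ A, a * a = 1) (hw : ∀ a ∈ A, w * a * w⁻¹ ∈ A)
    (hw2 : ∀ a ∈ A, (w * w) * a = a * (w * w)) {b : A} (hb : b ∈ (cmHom hA hw).range) :
    (b : G) * w = w * b := by
  obtain ⟨a, rfl⟩ := hb
  rw [cmHom_apply]
  set c : G := w * (a : G) * w⁻¹ * (a : G)⁻¹ with hc
  have hcA : c ∈ A := mul_mem (hw a a.2) (inv_mem a.2)
  have h1 : w * c * w⁻¹ = c⁻¹ := by
    have h2 : w * w * (a : G) * (w * w)⁻¹ = a := conj_eq_iff_comm.mpr (hw2 a a.2)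
    calc w * c * w⁻¹ = (w * w * (a : G) * (w * w)⁻¹) * (w * (a : G)⁻¹ * w⁻¹) := by rw [hc]; group
      _ = c⁻¹ := by rw [h2, hc]; group
  have h3 : c⁻¹ = c := inv_eq_of_mul_eq_one_left (hA c hcA)
  rw [h3] at h1
  exact (conj_eq_iff_comm.mp h1).symm

theorem card_range_mul [Finite G] (hA : ∀ a ∈ A, a * a = 1) (hw : ∀ a ∈ A, w * a * w⁻¹ ∈ A) :
    Nat.card (A ⊓ centralizer ({w} : Set G) : Subgroup G) * Nat.card (cmHom hA hw).range = Nat.card A := by
  rw [← card_ker hA hw, ← Subgroup.index_ker]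
  exact Subgroup.card_mul_index _

theorem range_le' (hA : ∀ a ∈ A, a * a = 1) (hw : ∀ a ∈ A, w * a * w⁻¹ ∈ A)
    (hw2 : ∀ a ∈ A, (w * w) * a = a * (w * w)) :
    (cmHom hA hw).range ≤ (A ⊓ centralizer ({w} : Set G)).subgroupOf A := by
  intro b hb
  rw [mem_subgroupOf, mem_inf, mem_cent1]
  exact ⟨b.2, range_le hA hw hw2 hb⟩

/-- `|A| ≤ |C_A(w)|²` -/
theorem card_le_sq [Finite G] (hA : ∀ a ∈ A, a * a = 1) (hw : ∀ a ∈ A, w * a * w⁻¹ ∈ A)
    (hw2 : ∀ a ∈ A, (w * w) * a = a * (w * w)) :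
    Nat.card A ≤ Nat.card (A ⊓ centralizer ({w} : Set G) : Subgroup G) ^ 2 := by
  have h1 := Subgroup.card_le_of_le (range_le' hA hw hw2)
  rw [Nat.card_congr (Subgroup.subgroupOfEquivOfLe inf_le_left).toEquiv] at h1
  rw [← card_range_mul hA hw, pow_two]
  exact Nat.mul_le_mul_left _ h1

/-- if `|C_A(w)|² ≤ |A|` every element of `C_A(w)` is a commutator `[w, a]` -/
theorem exists_cm [Finite G] (hA : ∀ a ∈ A, a * a = 1) (hw : ∀ a ∈ A, w * a * w⁻¹ ∈ A)
    (hw2 : ∀ a ∈ A, (w * w) * a = a * (w * w))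
    (hc : Nat.card (A ⊓ centralizer ({w} : Set G) : Subgroup G) ^ 2 ≤ Nat.card A) {b : G} (hb : b ∈ A)
    (hbw : b * w = w * b) : ∃ a ∈ A, w * a * w⁻¹ * a⁻¹ = b := by
  have h1 : (cmHom hA hw).range = (A ⊓ centralizer ({w} : Set G)).subgroupOf A := by
    apply Subgroup.eq_of_le_of_card_ge (range_le' hA hw hw2)
    rw [Nat.card_congr (Subgroup.subgroupOfEquivOfLe inf_le_left).toEquiv]
    rw [← card_range_mul hA hw, pow_two] at hc
    exact Nat.le_of_mul_le_mul_left hc Nat.card_pos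
  have h2 : (⟨b, hb⟩ : A) ∈ (cmHom hA hw).range := by
    rw [h1, mem_subgroupOf]
    exact ⟨hb, mem_cent1.mpr hbw⟩
  obtain ⟨a, ha⟩ := h2
  exact ⟨a, a.2, congrArg Subtype.val ha⟩

/-- the same, in the form used for transvections -/
theorem exists_move [Finite G] (hA : ∀ a ∈ A, a * a = 1) (hw : ∀ a ∈ A, w * a * w⁻¹ ∈ A)
    (hw2 : w * w = 1)
    (hc : Nat.card (A ⊓ centralizer ({w} : Set G) : Subgroup G) ^ 2 ≤ Nat.card A) {b : G} (hb : b ∈ A)
    (hbw : b * w = w * b) : ∃ a ∈ A, a * w * a⁻¹ = w * b := by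
  obtain ⟨a, ha, hab⟩ := exists_cm hA hw (fun a _ => by rw [hw2]; group) hc hb hbw
  refine ⟨a, ha, ?_⟩
  have h1 : w⁻¹ = w := inv_eq_of_mul_eq_one_left hw2
  have h2 : a⁻¹ = a := inv_eq_of_mul_eq_one_left (hA a ha)
  rw [h1] at hab
  -- `w a w a⁻¹ = b`
  calc a * w * a⁻¹ = (w * w) * (a * w * a⁻¹) := by rw [hw2, one_mul]
    _ = w * (w * a * w * a⁻¹) := by group
    _ = w * b := by rw [hab]

/-- an element `w` with `w² ∈ A`, `|C_A(w)|² ≤ |A|`: the coset `wA` contains an element of square 1 -/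
theorem exists_split [Finite G] (hA : ∀ a ∈ A, a * a = 1) (hw : ∀ a ∈ A, w * a * w⁻¹ ∈ A)
    (hw2 : w * w ∈ A)
    (hc : Nat.card (A ⊓ centralizer ({w} : Set G) : Subgroup G) ^ 2 ≤ Nat.card A) :
    ∃ a ∈ A, (a * w) * (a * w) = 1 := by
  obtain ⟨a, ha, hab⟩ := exists_cm hA hw (fun a ha => comm_of_elem hA hw2 ha) hc hw2
    (by group)
  refine ⟨a, ha, ?_⟩
  have h2 : a⁻¹ = a := inv_eq_of_mul_eq_one_left (hA a ha)
  -- `w a w⁻¹ a⁻¹ = w²`
  have h3 : w * a * w⁻¹ = w * w * a := by rw [← hab]; group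
  calc (a * w) * (a * w) = a * (w * a * w⁻¹) * (w * w) := by group
    _ = a * (w * w * a) * (w * w) := by rw [h3]
    _ = a * ((w * w) * a) * (w * w) := by group
    _ = a * (a * (w * w)) * (w * w) := by rw [comm_of_elem hA hw2 ha]
    _ = (a * a) * ((w * w) * (w * w)) := by group
    _ = 1 := by rw [hA a ha, hA _ hw2, one_mul]

end Act

end Cfsg.Agent.OddHalf.D4.RkEnd.End
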