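import Mathlib
import Cfsg.Agent.OddHalf.D4.RkEnd.DG
import Cfsg.Agent.OddHalf.D4.RkEnd.End

/-!
# ODD, D4, rank one ends: the affine frame

`A` elementary, `E` abelian, `P ≤ A ∩ E` elementary of order `q`, the commutator gives `A/P × E/P → P`,
surjective and injective in `E/P` for each `x ∈ A ∖ P`; the Sylow 2-subgroup `S` acts on `P` like a
cyclic group of field automorphisms. `strongP`: `P` is strongly closed under the hypotheses of `TR` and `DG`.
-/

set_option autoImplicit false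

namespace Cfsg.Agent.OddHalf.D4.RkEnd.Aff

open Subgroup Cfsg.Agent.OddHalf.D4.Basic Cfsg.Agent.OddHalf.D4.CommConj
open Cfsg.Agent.OddHalf.D4.RkEnd.Tools Cfsg.Agent.OddHalf.D4.RkEnd.End
open Cfsg.Agent.OddHalf.D4.RkEnd.TR (Conj)
open Cfsg.Agent.OddHalf.D4.RkEnd.DG (Bad)
open scoped commutatorElement

universe u

variable {G : Type u} [Group G]

/-- the common data -/
structure Frame0 (S A E P : Subgroup G) (q : ℕ) (II : G → Prop) : Prop where
  two : IsPGroup 2 S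
  AS : A ≤ S
  ES : E ≤ S
  PA : P ≤ A
  PE : P ≤ E
  elemA : ∀ a ∈ A, a * a = 1
  commE : ∀ a ∈ E, ∀ b ∈ E, a * b = b * a
  cardP : Nat.card P = q
  q8 : 8 ≤ q
  AnP : ∃ x ∈ A, x ∉ P
  EnP : ∃ e ∈ E, e ∉ P
  brP : ∀ x ∈ A, ∀ e ∈ E, x * e * x⁻¹ * e⁻¹ ∈ P
  brA : ∀ x ∈ A, x ∉ P → ∀ e ∈ E, x * e = e * x → e ∈ P
  surj : ∀ x ∈ A, x ∉ P → ∀ p ∈ P, ∃ e ∈ E, x * e * x⁻¹ * e⁻¹ = p
  normP : ∀ s ∈ S, ∀ p ∈ P, s * p * s⁻¹ ∈ P
  fix2 : ∀ s ∈ S, s ∉ centralizer (P : Set G) →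
    Nat.card (P ⊓ centralizer ({s} : Set G) : Subgroup G) ^ 2 ≤ q
  fix4 : ∀ s ∈ S, s * s ∉ centralizer (P : Set G) →
    Nat.card (P ⊓ centralizer ({s} : Set G) : Subgroup G) ^ 4 ≤ q
  cyc : ∀ s ∈ S, ∀ s' ∈ S, s ∉ centralizer (P : Set G) → s' ∉ centralizer (P : Set G) →
    s * s ∈ centralizer (P : Set G) → s' * s' ∈ centralizer (P : Set G) → s * s' ∈ centralizer (P : Set G)
  comm : ∀ s ∈ S, ∀ s' ∈ S, s * s' * s⁻¹ * s'⁻¹ ∈ centralizer (P : Set G)
  toZ : ∀ p ∈ P, p ≠ 1 → ∃ g : G, g * p * g⁻¹ ∈ P ∧ ∀ s ∈ S, s * (g * p * g⁻¹) = (g * p * g⁻¹) * s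
  IIc : ∀ g x : G, II x → II (g * x * g⁻¹)
  AII : ∀ x ∈ A, x ∉ P → II x
  PII : ∀ x ∈ P, ¬ II x

/-- the common data with a Sylow 2-subgroup -/
structure Frame (S A E P : Subgroup G) (q : ℕ) (II : G → Prop) : Prop extends Frame0 S A E P q II where
  syl : IsSyl S ⊤

variable {S A E P : Subgroup G} {q : ℕ} {II : G → Prop}

theorem le_of_sq {a b : ℕ} (h : a ^ 2 ≤ b ^ 2) : a ≤ b := (Nat.pow_le_pow_iff_left (by norm_num)).mp h

namespace Frame0

theorem elemP (f : Frame0 S A E P q II) : ∀ p ∈ P, p * p = 1 := fun p hp => f.elemA p (f.PA hp)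

theorem inv_eq (f : Frame0 S A E P q II) {p : G} (hp : p ∈ P) : p⁻¹ = p :=
  inv_eq_of_mul_eq_one_left (f.elemP p hp)

theorem PS (f : Frame0 S A E P q II) : P ≤ S := f.PA.trans f.AS

theorem commPA (f : Frame0 S A E P q II) {p x : G} (hp : p ∈ P) (hx : x ∈ A) : p * x = x * p :=
  comm_of_elem f.elemA (f.PA hp) hx

theorem commPE (f : Frame0 S A E P q II) {p x : G} (hp : p ∈ P) (hx : x ∈ E) : p * x = x * p :=
  f.commE p (f.PE hp) x hx

theorem commPP (f : Frame0 S A E P q II) {p x : G} (hp : p ∈ P) (hx : x ∈ P) : p * x = x * p :=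
  f.commPA hp (f.PA hx)

theorem A_cent (f : Frame0 S A E P q II) {x : G} (hx : x ∈ A) : x ∈ centralizer (P : Set G) :=
  mem_cent.mpr fun _ hp => (f.commPA hp hx).symm

theorem E_cent (f : Frame0 S A E P q II) {x : G} (hx : x ∈ E) : x ∈ centralizer (P : Set G) :=
  mem_cent.mpr fun _ hp => (f.commPE hp hx).symm

theorem norm (f : Frame0 S A E P q II) : S ≤ normalizer (P : Set G) := by
  intro s hs
  rw [mem_normalizer_iff]
  intro p
  refine ⟨fun hp => f.normP s hs p hp, fun hp => ?_⟩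
  have := f.normP s⁻¹ (inv_mem hs) _ hp
  have e : s⁻¹ * (s * p * s⁻¹) * s⁻¹⁻¹ = p := by group
  rwa [e] at this

/-- elements of `A ∖ P` and `E ∖ P` do not commute -/
theorem brE (f : Frame0 S A E P q II) {x e : G} (hx : x ∈ A) (he : e ∈ E) (heP : e ∉ P)
    (hc : x * e = e * x) : x ∈ P := by
  by_contra hxP
  exact heP (f.brA x hx hxP e he hc)

theorem AE (f : Frame0 S A E P q II) {x : G} (hx : x ∈ A) (hxE : x ∈ E) : x ∈ P := by
  obtain ⟨e, he, heP⟩ := f.EnP
  exact f.brE hx he heP (f.commE x hxE e he)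

/-- the commutator is additive in `E` -/
theorem br_mul (f : Frame0 S A E P q II) {x e e' : G} (hx : x ∈ A) (he : e ∈ E) (he' : e' ∈ E) :
    x * (e * e') * x⁻¹ * (e * e')⁻¹ = (x * e * x⁻¹ * e⁻¹) * (x * e' * x⁻¹ * e'⁻¹) := by
  have h1 := f.commPE (f.brP x hx e' he') he
  calc x * (e * e') * x⁻¹ * (e * e')⁻¹
      = (x * e * x⁻¹ * e⁻¹) * (e * (x * e' * x⁻¹ * e'⁻¹)) * e⁻¹ := by group
    _ = (x * e * x⁻¹ * e⁻¹) * ((x * e' * x⁻¹ * e'⁻¹) * e) * e⁻¹ := by rw [h1]
    _ = _ := by group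

/-- `|X| ≤ |X ∩ P| |C_P(s)|` when `X ≤ E` is moved by `s` inside `P` only, `x ∈ A ∖ P` too -/
theorem card_E_le [Finite G] (f : Frame0 S A E P q II) {s x : G} (hx : x ∈ A) (hxP : x ∉ P)
    (hxs : s * x * s⁻¹ * x⁻¹ ∈ P) {X : Subgroup G} (hX : X ≤ E)
    (hXs : ∀ e ∈ X, s * e * s⁻¹ * e⁻¹ ∈ P) :
    Nat.card X ≤ Nat.card (X ⊓ P : Subgroup G) *
      Nat.card (P ⊓ centralizer ({s} : Set G) : Subgroup G) := by
  have hmem : ∀ e ∈ X, x * e * x⁻¹ * e⁻¹ ∈ P ⊓ centralizer ({s} : Set G) := by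
    intro e he
    have h0 := f.brP x hx e (hX he)
    refine ⟨h0, mem_cent1.mpr ?_⟩
    set a : G := s * x * s⁻¹ * x⁻¹ with ha
    set b : G := s * e * s⁻¹ * e⁻¹ with hb
    have hbP : b ∈ P := hXs e he
    have e1 : s * x * s⁻¹ = a * x := by rw [ha]; group
    have e2 : s * e * s⁻¹ = b * e := by rw [hb]; group
    have h1 : s * (x * e * x⁻¹ * e⁻¹) * s⁻¹ = x * e * x⁻¹ * e⁻¹ := by
      have c1 : x * b = b * x := (f.commPA hbP hx).symm
      have c2 : a * e = e * a := f.commPE hxs (hX he)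
      have c3 : a * b = b * a := f.commPP hxs hbP
      have c4 : a * (x * e * x⁻¹ * e⁻¹) = (x * e * x⁻¹ * e⁻¹) * a := f.commPP hxs h0
      have c5 : b * (x * e * x⁻¹ * e⁻¹) = (x * e * x⁻¹ * e⁻¹) * b := f.commPP hbP h0
      calc s * (x * e * x⁻¹ * e⁻¹) * s⁻¹
          = (s * x * s⁻¹) * (s * e * s⁻¹) * (s * x * s⁻¹)⁻¹ * (s * e * s⁻¹)⁻¹ := by group
        _ = (a * x) * (b * e) * (a * x)⁻¹ * (b * e)⁻¹ := by rw [e1, e2]
        _ = a * (x * b) * e * x⁻¹ * a⁻¹ * e⁻¹ * b⁻¹ := by group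
        _ = (a * b) * x * e * x⁻¹ * a⁻¹ * e⁻¹ * b⁻¹ := by rw [c1]; group
        _ = (b * a) * x * e * x⁻¹ * a⁻¹ * e⁻¹ * b⁻¹ := by rw [c3]
        _ = b * (a * (x * e * x⁻¹ * e⁻¹)) * (e * a⁻¹) * e⁻¹ * b⁻¹ := by group
        _ = b * ((x * e * x⁻¹ * e⁻¹) * a) * (e * a⁻¹) * e⁻¹ * b⁻¹ := by rw [c4]
        _ = b * (x * e * x⁻¹ * e⁻¹) * (a * e) * a⁻¹ * e⁻¹ * b⁻¹ := by group
        _ = b * (x * e * x⁻¹ * e⁻¹) * (e * a) * a⁻¹ * e⁻¹ * b⁻¹ := by rw [c2]
        _ = (b * (x * e * x⁻¹ * e⁻¹)) * b⁻¹ := by group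
        _ = ((x * e * x⁻¹ * e⁻¹) * b) * b⁻¹ := by rw [c5]
        _ = x * e * x⁻¹ * e⁻¹ := by group
    exact (conj_eq_iff_comm.mp h1).symm
  let φ : X →* (P ⊓ centralizer ({s} : Set G) : Subgroup G) :=
    { toFun := fun e => ⟨x * (e : G) * x⁻¹ * (e : G)⁻¹, hmem e e.2⟩
      map_one' := by
        apply Subtype.ext
        simp
      map_mul' := by
        intro e e'
        apply Subtype.ext
        exact f.br_mul hx (hX e.2) (hX e'.2) }
  have h1 : Nat.card φ.ker * φ.ker.index = Nat.card X := Subgroup.card_mul_index _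
  rw [Subgroup.index_ker] at h1
  have h2 : φ.ker ≤ (X ⊓ P).subgroupOf X := by
    intro e he
    rw [MonoidHom.mem_ker] at he
    have h3 : x * (e : G) * x⁻¹ * (e : G)⁻¹ = 1 := congrArg Subtype.val he
    rw [mem_subgroupOf]
    refine ⟨e.2, f.brA x hx hxP e (hX e.2) ?_⟩
    rw [mul_inv_eq_one, mul_inv_eq_iff_eq_mul] at h3
    exact h3
  have h3 := Subgroup.card_le_of_le h2
  rw [Nat.card_congr (Subgroup.subgroupOfEquivOfLe (inf_le_left : X ⊓ P ≤ X)).toEquiv] at h3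
  rw [← h1]
  exact Nat.mul_le_mul h3 (Subgroup.card_le_card_group φ.range)

/-- `|E| = q²` -/
theorem cardE [Finite G] (f : Frame0 S A E P q II) : Nat.card E = q ^ 2 := by
  obtain ⟨x, hx, hxP⟩ := f.AnP
  let φ : E →* P :=
    { toFun := fun e => ⟨x * (e : G) * x⁻¹ * (e : G)⁻¹, f.brP x hx e e.2⟩
      map_one' := by
        apply Subtype.ext
        simp
      map_mul' := by
        intro e e'
        apply Subtype.ext
        exact f.br_mul hx e.2 e'.2 }
  have h1 : Nat.card φ.ker * φ.ker.index = Nat.card E := Subgroup.card_mul_index _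
  have hs : Function.Surjective φ := by
    rintro ⟨p, hp⟩
    obtain ⟨e, he, hep⟩ := f.surj x hx hxP p hp
    exact ⟨⟨e, he⟩, Subtype.ext hep⟩
  rw [Subgroup.index_ker, MonoidHom.range_eq_top.mpr hs, Subgroup.card_top, f.cardP] at h1
  have h2 : φ.ker = P.subgroupOf E := by
    ext e
    rw [MonoidHom.mem_ker, mem_subgroupOf]
    constructor
    · intro he
      have h3 : x * (e : G) * x⁻¹ * (e : G)⁻¹ = 1 := congrArg Subtype.val he
      rw [mul_inv_eq_one, mul_inv_eq_iff_eq_mul] at h3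
      exact f.brA x hx hxP e e.2 h3
    · intro he
      apply Subtype.ext
      show x * (e : G) * x⁻¹ * (e : G)⁻¹ = 1
      rw [mul_inv_eq_one, mul_inv_eq_iff_eq_mul]
      exact (f.commPA he hx).symm
  rw [h2, Nat.card_congr (Subgroup.subgroupOfEquivOfLe f.PE).toEquiv, f.cardP] at h1
  rw [← h1, pow_two]

theorem fixPoint [Finite G] (f : Frame0 S A E P q II) {w : G} (hw : w ∈ S)
    (hw2 : w * w ∈ centralizer (P : Set G)) :
    q ≤ Nat.card (P ⊓ centralizer ({w} : Set G) : Subgroup G) ^ 2 := by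
  have h1 := card_le_sq (A := P) (w := w) f.elemP (fun a ha => f.normP w hw a ha)
    (fun a ha => mem_cent.mp hw2 a ha)
  rwa [f.cardP] at h1

theorem sq_cent {w : G} (hw : w * w = 1) : w * w ∈ centralizer (P : Set G) := by
  rw [hw]
  exact one_mem _

/-- all involutory elements have the same fixed points on `P` -/
theorem fix_eq (f : Frame0 S A E P q II) {w w' : G} (hw : Bad S P w) (hw' : Bad S P w') :
    P ⊓ centralizer ({w} : Set G) = P ⊓ centralizer ({w'} : Set G) := by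
  have h1 := f.cyc w hw.mem w' hw'.mem hw.notCent hw'.notCent (sq_cent (P := P) hw.sq) (sq_cent (P := P) hw'.sq)
  have h2 : ∀ p ∈ P, p * w = w * p ↔ p * w' = w' * p := by
    intro p hp
    have h3 := mem_cent.mp h1 p hp
    constructor
    · intro h4
      calc p * w' = (w * w) * p * w' := by rw [hw.sq, one_mul]
        _ = w * (w * p) * w' := by group
        _ = w * (p * w) * w' := by rw [h4]
        _ = w * (p * (w * w')) := by group
        _ = w * ((w * w') * p) := by rw [h3]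
        _ = (w * w) * (w' * p) := by group
        _ = w' * p := by rw [hw.sq, one_mul]
    · intro h4
      calc p * w = p * (w * (w' * w')) := by rw [hw'.sq, mul_one]
        _ = (p * (w * w')) * w' := by group
        _ = (w * w') * p * w' := by rw [h3]
        _ = w * w' * (p * w') := by group
        _ = w * w' * (w' * p) := by rw [h4]
        _ = w * (w' * w') * p := by group
        _ = w * p := by rw [hw'.sq, mul_one]
  ext p
  rw [mem_inf, mem_inf, mem_cent1, mem_cent1]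
  constructor
  · rintro ⟨h3, h4⟩
    exact ⟨h3, (h2 p h3).mp h4⟩
  · rintro ⟨h3, h4⟩
    exact ⟨h3, (h2 p h3).mpr h4⟩

/-- the two closing lemmas together -/
theorem _root_.Cfsg.Agent.OddHalf.D4.RkEnd.Aff.Frame.strongP [Finite G] (f : Frame S A E P q II)
    (inn : ∀ x ∈ S, ∀ y ∈ S, x ∈ centralizer (P : Set G) → y ∈ centralizer (P : Set G) → x ∉ P → y ∉ P →
      Conj P x → Conj P y → x * y = y * x → x * y ∈ P)
    (move : ∀ w ∈ S, w ∈ centralizer (P : Set G) → w ∉ P → Conj P w → ∀ p ∈ P,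
      ∃ t ∈ centralizer (P : Set G), t * w * t⁻¹ = w * p)
    (wcT : ∀ x : G, S ⊓ centralizer (P : Set G) ≤ cj x S → cj x P = P)
    (der : ∀ w, Bad S P w → ∀ p ∈ P, p * w = w * p → ∀ X : Subgroup G,
      (∀ y ∈ S, (∀ c ∈ P, c * w = w * c → y * c = c * y) → y * w = w * y → y ∈ X) → p ∈ ⁅X, X⁆) :
    ∀ a ∈ P, ∀ g : G, g * a * g⁻¹ ∈ S → g * a * g⁻¹ ∈ P := by
  have hq8 := f.q8
  have htr : TR.Hyp S P q :=
    { syl := f.syl
      le := f.PS
      norm := f.norm
      elem := f.elemP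
      card := f.cardP
      q8 := f.q8
      toZ := f.toZ
      few := by
        intro s hs hsc
        have h1 := f.fix2 s hs hsc
        nlinarith
      out := by
        intro x hx y hy hxc hyc hx2 hy2 _
        exact f.cyc x hx y hy hxc hyc (sq_cent (P := P) (mul_self_of hx2)) (sq_cent (P := P) (mul_self_of hy2))
      inn := inn
      move := move }
  have hnone : ∀ w ∈ S, w ∈ centralizer (P : Set G) → Conj P w → w ∈ P := by
    intro w hw hwc hconj
    by_contra hwP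
    exact htr.main hw hwc hwP hconj
  by_cases hbad : ∃ w, Bad S P w
  · obtain ⟨w0, hw0⟩ := hbad
    set P0 : Subgroup G := P ⊓ centralizer ({w0} : Set G) with hP0
    have h1 := f.fix2 w0 hw0.mem hw0.notCent
    have h2 := f.fixPoint hw0.mem (sq_cent (P := P) hw0.sq)
    have hdg : DG.Hyp S P P0 (Nat.card P0) :=
      { syl := f.syl
        le := f.PS
        norm := f.norm
        elem := f.elemP
        card0 := rfl
        q4 := by
          obtain ⟨k, hk⟩ := exists_two_pow ((isPGroup_of_elem f.elemP).to_le (inf_le_left : P0 ≤ P))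
          rw [hk]
          have h3 : 8 ≤ (2 ^ k) ^ 2 := by
            rw [← hk]
            exact hq8.trans h2
          have h4 : 2 ≤ k := by
            by_contra hlt
            push Not at hlt
            have : k = 0 ∨ k = 1 := by omega
            rcases this with rfl | rfl <;> norm_num at h3
          calc 4 = 2 ^ 2 := by norm_num
            _ ≤ 2 ^ k := Nat.pow_le_pow_right (by norm_num) h4
        toZ := f.toZ
        wcT := wcT
        comm := f.comm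
        inv := f.cyc
        few := by
          intro s hs hsc
          have h3 := f.fix2 s hs hsc
          exact le_of_sq (h3.trans h2)
        fix := fun w hw => f.fix_eq hw hw0
        move := by
          intro w hw b hb
          have h3 := f.fix_eq hw hw0
          rw [← hP0] at h3
          have hb' := hb
          rw [← h3] at hb'
          refine exists_move f.elemP (fun a ha => f.normP w hw.mem a ha) hw.sq ?_ hb'.1 (mem_cent1.mp hb'.2)
          rw [h3, f.cardP]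
          exact h1
        der := by
          intro w hw b hb
          have h3 := f.fix_eq hw hw0
          rw [← hP0] at h3
          have hb' := hb
          rw [← h3] at hb'
          refine der w hw b hb'.1 (mem_cent1.mp hb'.2) _ ?_
          intro y hy hyc hyw
          refine ⟨⟨hy, mem_cent.mpr fun c hc => ?_⟩, mem_cent1.mpr hyw⟩
          rw [← h3] at hc
          exact hyc c hc.1 (mem_cent1.mp hc.2)
        none := hnone }
    exact hdg.strong
  · push Not at hbad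
    intro a ha g hg
    by_cases ha1 : a = 1
    · rw [ha1]
      have : g * 1 * g⁻¹ = 1 := by group
      rw [this]
      exact one_mem _
    · have hconj : Conj P (g * a * g⁻¹) := by
        refine ⟨by rw [orderOf_conj]; exact orderOf_two_of (f.elemP a ha) ha1, g⁻¹, ?_⟩
        have : g⁻¹ * (g * a * g⁻¹) * g⁻¹⁻¹ = a := by group
        rw [this]
        exact ha
      apply hnone _ hg _ hconj
      by_contra hcon
      exact hbad _ ⟨hg, hcon, hconj⟩

/-- an involution conjugate into `P` is not in `II` -/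
theorem not_II (f : Frame0 S A E P q II) {w : G} (hw : Conj P w) : ¬ II w := by
  intro h
  obtain ⟨-, g, hg⟩ := hw
  exact f.PII _ hg (f.IIc g w h)

theorem exists_xe (f : Frame0 S A E P q II) : ∃ x ∈ A, ∃ e ∈ E, x * e ≠ e * x := by
  obtain ⟨x, hx, hxP⟩ := f.AnP
  obtain ⟨e, he, heP⟩ := f.EnP
  exact ⟨x, hx, e, he, fun h => heP (f.brA x hx hxP e he h)⟩

theorem exists_pne [Finite G] (f : Frame0 S A E P q II) : ∃ p ∈ P, p ≠ 1 := by
  by_contra hcon
  push Not at hcon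
  have h1 : P = ⊥ := (Subgroup.eq_bot_iff_forall P).mpr hcon
  have h2 := f.cardP
  rw [h1, Subgroup.card_bot] at h2
  have := f.q8
  omega

/-- `P` strongly closed is impossible in a simple group -/
theorem _root_.Cfsg.Agent.OddHalf.D4.RkEnd.Aff.Frame.false_of_strongP [Finite G] [IsSimpleGroup G]
    (gold : Cfsg.Agent.StdSz.EndClosed.Gold.{u}) (f : Frame S A E P q II)
    (h : ∀ a ∈ P, ∀ g : G, g * a * g⁻¹ ∈ S → g * a * g⁻¹ ∈ P) : False := by
  obtain ⟨x, hx, e, he, hxe⟩ := f.exists_xe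
  obtain ⟨y, hy, hyP⟩ := f.AnP
  exact false_of_strong gold f.syl f.PS f.elemP f.exists_pne h ⟨y, f.AS hy, hyP, f.elemA y hy⟩
    ⟨x, f.AS hx, e, f.ES he, hxe⟩

/-! ### Involutions normalizing `A` and `E` -/

/-- `[w, e] ∈ P` for `e ∈ E` is centralized by `w` -/
theorem cm_cent (f : Frame0 S A E P q II) {w e : G} (hw2 : w * w = 1) (hP : w * e * w⁻¹ * e⁻¹ ∈ P) :
    (w * e * w⁻¹ * e⁻¹) * w = w * (w * e * w⁻¹ * e⁻¹) := by
  have h1 : w⁻¹ = w := inv_eq_of_mul_eq_one_left hw2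
  have h2 := f.inv_eq hP
  symm
  calc w * (w * e * w⁻¹ * e⁻¹) = (w * w) * e * w⁻¹ * e⁻¹ := by group
    _ = e * w⁻¹ * e⁻¹ := by rw [hw2, one_mul]
    _ = e * w * e⁻¹ := by rw [h1]
    _ = (w * e * w⁻¹ * e⁻¹)⁻¹ * w := by group
    _ = (w * e * w⁻¹ * e⁻¹) * w := by rw [h2]

/-- **derived group, field type** -/
theorem der_field [Finite G] (f : Frame0 S A E P q II) {w : G} (hw : Bad S P w)
    (hwA : ∀ a ∈ A, w * a * w⁻¹ ∈ A) (hwE : ∀ e ∈ E, w * e * w⁻¹ ∈ E) {p : G} (hp : p ∈ P)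
    (hpw : p * w = w * p) {X : Subgroup G}
    (hX : ∀ y ∈ S, (∀ c ∈ P, c * w = w * c → y * c = c * y) → y * w = w * y → y ∈ X) : p ∈ ⁅X, X⁆ := by
  have h1 := f.fix2 w hw.mem hw.notCent
  -- an element of `C_A(w) ∖ P`
  obtain ⟨x, hx, hxP, hxw⟩ : ∃ x ∈ A, x ∉ P ∧ x * w = w * x := by
    by_contra hcon
    push Not at hcon
    have h2 : A ⊓ centralizer ({w} : Set G) ≤ P ⊓ centralizer ({w} : Set G) := by
      intro a ha
      refine ⟨?_, ha.2⟩
      by_contra haP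
      exact hcon a ha.1 haP (mem_cent1.mp ha.2)
    have h3 := Subgroup.card_le_of_le h2
    have h4 := card_le_sq (A := A) (w := w) f.elemA hwA (fun a _ => by rw [hw.sq]; group)
    have h5 : Nat.card A ≤ Nat.card P := by
      rw [f.cardP]
      exact h4.trans ((Nat.pow_le_pow_left h3 2).trans h1)
    have h6 := Subgroup.eq_of_le_of_card_ge f.PA h5
    obtain ⟨a, ha, haP⟩ := f.AnP
    rw [h6] at haP
    exact haP ha
  obtain ⟨e, he, hep⟩ := f.surj x hx hxP p hp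
  -- `[w, e] ∈ P`
  have hwe : w * e * w⁻¹ * e⁻¹ ∈ P := by
    apply f.brA x hx hxP _ (mul_mem (hwE e he) (inv_mem he))
    -- `[x, w e w⁻¹] = [x, e]`
    have h2 : x * (w * e * w⁻¹) * x⁻¹ * (w * e * w⁻¹)⁻¹ = p := by
      have h3 : w * x * w⁻¹ = x := conj_eq_iff_comm.mpr hxw.symm
      calc x * (w * e * w⁻¹) * x⁻¹ * (w * e * w⁻¹)⁻¹
          = (w * x * w⁻¹) * (w * e * w⁻¹) * (w * x * w⁻¹)⁻¹ * (w * e * w⁻¹)⁻¹ := by rw [h3]
        _ = w * (x * e * x⁻¹ * e⁻¹) * w⁻¹ := by group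
        _ = p := by rw [hep, conj_eq_iff_comm.mpr hpw.symm]
    have h3 := f.br_mul hx (hwE e he) (inv_mem he)
    have h4 : x * e⁻¹ * x⁻¹ * e⁻¹⁻¹ = p := by
      have h5 := f.br_mul hx he (inv_mem he)
      rw [mul_inv_cancel, hep] at h5
      have h6 : p * (x * e⁻¹ * x⁻¹ * e⁻¹⁻¹) = 1 := by rw [← h5]; group
      have h7 := eq_inv_of_mul_eq_one_right h6
      rw [h7, f.inv_eq hp]
    rw [h2, h4, f.elemP p hp, mul_inv_eq_one, mul_inv_eq_iff_eq_mul] at h3
    exact h3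
  obtain ⟨c, hc, hce⟩ := exists_cm f.elemP (w := w) (fun a ha => f.normP w hw.mem a ha)
    (fun a _ => by rw [hw.sq]; group) (by rw [f.cardP]; exact h1) hwe (f.cm_cent hw.sq hwe)
  -- `e' = e c⁻¹`
  have hcE : c ∈ E := f.PE hc
  have hewc : (e * c⁻¹) * w = w * (e * c⁻¹) := by
    have h2 : w * (e * c⁻¹) * w⁻¹ = e * c⁻¹ := by
      have h3 : w * e * w⁻¹ = (w * c * w⁻¹ * c⁻¹) * e := by rw [hce]; group
      have h4 := f.commPE (f.normP w hw.mem _ (inv_mem hc)) he
      have h5 : c⁻¹ * e = e * c⁻¹ := f.commPE (inv_mem hc) he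
      have h6 : (w * c * w⁻¹ * c⁻¹) * (w * c⁻¹ * w⁻¹) = (w * c⁻¹ * w⁻¹) * (w * c * w⁻¹ * c⁻¹) :=
        f.commPP (mul_mem (f.normP w hw.mem _ hc) (inv_mem hc)) (f.normP w hw.mem _ (inv_mem hc))
      calc w * (e * c⁻¹) * w⁻¹ = (w * e * w⁻¹) * (w * c⁻¹ * w⁻¹) := by group
        _ = (w * c * w⁻¹ * c⁻¹) * (e * (w * c⁻¹ * w⁻¹)) := by rw [h3]; group
        _ = (w * c * w⁻¹ * c⁻¹) * ((w * c⁻¹ * w⁻¹) * e) := by rw [h4]
        _ = ((w * c * w⁻¹ * c⁻¹) * (w * c⁻¹ * w⁻¹)) * e := by group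
        _ = ((w * c⁻¹ * w⁻¹) * (w * c * w⁻¹ * c⁻¹)) * e := by rw [h6]
        _ = c⁻¹ * e := by group
        _ = e * c⁻¹ := h5
    exact (conj_eq_iff_comm.mp h2).symm
  have hxe' : x * (e * c⁻¹) * x⁻¹ * (e * c⁻¹)⁻¹ = p := by
    rw [f.br_mul hx he (inv_mem hcE), hep]
    have h2 : x * c⁻¹ * x⁻¹ = c⁻¹ := conj_eq_iff_comm.mpr (f.commPA (inv_mem hc) hx).symm
    rw [h2, mul_inv_cancel, mul_one]
  rw [← hxe', ← commutatorElement_def]
  apply Subgroup.commutator_mem_commutator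
  · exact hX x (f.AS hx) (fun c hc _ => (f.commPA hc hx).symm) hxw
  · exact hX _ (mul_mem (f.ES he) (inv_mem (f.ES hcE)))
      (fun d hd _ => (f.commPE hd (mul_mem he (inv_mem hcE))).symm) hewc

end Frame0

end Cfsg.Agent.OddHalf.D4.RkEnd.Aff
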