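import Mathlib
import Cfsg.Agent.OddHalf.D4.RkEnd.Tools

/-!
# ODD, D4, rank one ends: the elementary group of order `q²`

`A ≤ S` elementary abelian of order `q²`, `q ≥ 8`, weakly closed in the Sylow 2-subgroup `S`. Every
involution of `S ∖ A` conjugate into `A` centralizes exactly `q` elements of `A` and is moved by `A`
to all of `w C_A(w)`; then, with two further inequalities, there is none: `A` is strongly closed.
-/

set_option autoImplicit false

namespace Cfsg.Agent.OddHalf.D4.RkEnd.SC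

open Subgroup Cfsg.Agent.OddHalf.D4.Basic Cfsg.Agent.OddHalf.D4.CommConj
open Cfsg.Agent.OddHalf.D4.RkEnd.Tools

universe u

variable {G : Type u} [Group G]

/-- an involution of `S ∖ A` that is conjugate into `A` -/
structure Bad (S A : Subgroup G) (w : G) : Prop where
  mem : w ∈ S
  notMem : w ∉ A
  invol : orderOf w = 2
  conj : ∃ g : G, g * w * g⁻¹ ∈ A

/-- the hypothesis: `A` elementary of order `q²`, weakly closed in `S` -/
structure Hyp (S A : Subgroup G) (q : ℕ) : Prop where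
  syl : IsSyl S ⊤
  le : A ≤ S
  elem : ∀ a ∈ A, a * a = 1
  card : Nat.card A = q ^ 2
  q8 : 8 ≤ q
  wc : ∀ g : G, cj g A ≤ S → cj g A = A
  cent : ∀ w, Bad S A w → Nat.card (A ⊓ centralizer ({w} : Set G) : Subgroup G) = q
  move : ∀ w, Bad S A w → ∀ b ∈ A, b * w = w * b → ∃ a ∈ A, a * w * a⁻¹ = w * b
  half : ∀ w, Bad S A w → ∀ y : G, w ∈ cj y A → A ⊓ centralizer ({w} : Set G) ≤ cj y S →
    q ≤ 2 * Nat.card (A ⊓ centralizer ({w} : Set G) ⊓ cj y A : Subgroup G)
  big : ∀ w, Bad S A w → ∀ F : Subgroup G, F ≤ A → (∀ f ∈ F, f * w = w * f) → q ≤ 2 * Nat.card F →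
    ∀ R : Subgroup G, IsPGroup 2 R → A ≤ R → w ∈ R → R ≤ normalizer (A : Set G) →
      (∀ r ∈ R, ∀ f ∈ F, r * f = f * r) → Nat.card R ≤ 2 * q ^ 2

variable {S A : Subgroup G} {q : ℕ}

/-- `A` is normal in `S^m` as soon as it lies in it -/
theorem Hyp.wc' (h : Hyp S A q) {m : G} (hm : A ≤ cj m S) : cj m A = A := by
  have h1 := h.wc m⁻¹ (le_cj_iff.mp hm)
  rw [cj_eq_iff, inv_inv] at h1
  exact h1.symm

theorem Hyp.norm_of_le (h : Hyp S A q) {m : G} (hm : A ≤ cj m S) :
    cj m S ≤ normalizer (A : Set G) := by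
  intro r hr
  apply mem_normalizer_of_cj_eq
  have h1 := h.wc' hm
  rw [mem_cj] at hr
  have h2 : cj (m⁻¹ * r * m) A = A := h.wc _ (cj_le_of_mem hr h.le)
  have h3 : r * m = m * (m⁻¹ * r * m) := by group
  calc cj r A = cj r (cj m A) := by rw [h1]
    _ = cj (m * (m⁻¹ * r * m)) A := by rw [← cj_mul, h3]
    _ = A := by rw [cj_mul, h2, h1]

theorem Hyp.comm (h : Hyp S A q) {a b : G} (ha : a ∈ A) (hb : b ∈ A) : a * b = b * a :=
  comm_of_elem h.elem ha hb

/-- `Bad` for conjugates `S^m` with `A^m = A` -/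
theorem Bad.of_cj {w : G} {m : G} (hmA : cj m A = A) (hw : w ∈ cj m S) (hwA : w ∉ A)
    (hw2 : orderOf w = 2) (hc : ∃ g : G, g * w * g⁻¹ ∈ A) : Bad S A (m⁻¹ * w * m) := by
  refine ⟨mem_cj.mp hw, ?_, ?_, ?_⟩
  · intro h1
    apply hwA
    rw [← hmA, mem_cj]
    exact h1
  · have := orderOf_conj m⁻¹ w
    rw [inv_inv] at this
    rw [this, hw2]
  · obtain ⟨g, hg⟩ := hc
    refine ⟨g * m, ?_⟩
    have : g * m * (m⁻¹ * w * m) * (g * m)⁻¹ = g * w * g⁻¹ := by group
    rwa [this]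

theorem cent_cj {w m : G} (hmA : cj m A = A) :
    A ⊓ centralizer ({w} : Set G) = cj m (A ⊓ centralizer ({m⁻¹ * w * m} : Set G)) := by
  rw [cj_inf, hmA]
  ext x
  rw [mem_inf, mem_inf, mem_cj, mem_cent1, mem_cent1]
  have e1 : m⁻¹ * x * m * (m⁻¹ * w * m) = m⁻¹ * (x * w) * m := by group
  have e2 : m⁻¹ * w * m * (m⁻¹ * x * m) = m⁻¹ * (w * x) * m := by group
  rw [e1, e2]
  simp

theorem Hyp.q_pow [Finite G] (h : Hyp S A q) : ∃ k : ℕ, q = 2 ^ k := by
  obtain ⟨k, hk⟩ := exists_two_pow (isPGroup_of_elem h.elem)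
  rw [h.card] at hk
  have h1 : q ∣ 2 ^ k := by
    rw [← hk]
    exact Dvd.intro_left q (by ring)
  obtain ⟨m, -, hm⟩ := (Nat.dvd_prime_pow Nat.prime_two).mp h1
  exact ⟨m, hm⟩

/-- Step 1: `w ∈ A^x`, `C_A(w) ≤ S^x` -/
theorem Hyp.step1 [Finite G] (h : Hyp S A q) {w : G} (hw : Bad S A w) :
    ∃ x : G, w ∈ cj x A ∧ A ⊓ centralizer ({w} : Set G) ≤ cj x S := by
  obtain ⟨g, hg⟩ := hw.conj
  have hw1 : w ∈ cj g⁻¹ A := by
    rw [mem_cj, inv_inv]
    exact hg
  have hAc : cj g⁻¹ A ≤ centralizer ({w} : Set G) := by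
    intro x hx
    rw [mem_cent1]
    rw [mem_cj, inv_inv] at hx hw1
    have h1 := h.comm hx hw1
    have h2 : x * w = g⁻¹ * (g * x * g⁻¹ * (g * w * g⁻¹)) * g := by group
    rw [h2, h1]
    group
  have hA2 : IsPGroup 2 A := isPGroup_of_elem h.elem
  obtain ⟨S1, hS1, hAS1⟩ := exists_isSyl (isPGroup_cj (g := g⁻¹) hA2) hAc
  obtain ⟨c, hc, hcC⟩ := exists_le_cj hS1 (hA2.to_le (inf_le_left : A ⊓ centralizer ({w} : Set G) ≤ A))
    inf_le_right
  obtain ⟨y, -, hy⟩ := exists_le_cj h.syl hS1.two le_top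
  have h1 : cj g⁻¹ A = cj y A := by
    have h2 : cj y⁻¹ (cj g⁻¹ A) ≤ S := le_cj_iff.mp (hAS1.trans hy)
    rw [← cj_mul] at h2
    have h3 := h.wc _ h2
    rw [cj_mul, cj_eq_iff, inv_inv] at h3
    exact h3
  refine ⟨c * y, ?_, ?_⟩
  · rw [cj_mul, mem_cj, ← h1]
    have h2 : c⁻¹ * w * c = w := by
      rw [mem_cent1] at hc
      rw [mul_assoc, ← hc, inv_mul_cancel_left]
    rw [h2]
    exact hw1
  · rw [cj_mul]
    exact hcC.trans (cj_mono hy)

/-- the strong closure of `A` -/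
theorem Hyp.main [Finite G] (h : Hyp S A q) {w : G} (hw : Bad S A w) : False := by
  obtain ⟨x, hwx, hCx⟩ := h.step1 hw
  set C : Subgroup G := A ⊓ centralizer ({w} : Set G) with hC
  have hCcard : Nat.card C = q := h.cent w hw
  have hCw : ∀ c ∈ C, c * w = w * c := fun c hc => mem_cent1.mp hc.2
  have hCA : C ≤ A := inf_le_left
  have hw22 : w * w = 1 := by
    have := pow_orderOf_eq_one w
    rwa [hw.invol, pow_two] at this
  set F : Subgroup G := C ⊓ cj x A with hF
  have hFq : q ≤ 2 * Nat.card F := h.half w hw x hwx hCx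
  have hFC : F ≤ C := inf_le_left
  set Γ : Subgroup G := centralizer (F : Set G) with hΓ
  have hA2 : IsPGroup 2 A := isPGroup_of_elem h.elem
  have hAΓ : A ≤ Γ := by
    intro a ha
    rw [mem_cent]
    intro d hd
    exact h.comm ha (hCA (hFC hd))
  have hwΓ : w ∈ Γ := by
    rw [mem_cent]
    intro d hd
    exact (hCw d (hFC hd)).symm
  have hAw : A ⊔ zpowers w ≤ S := sup_le h.le (zpowers_le.mpr hw.mem)
  have hAwΓ : A ⊔ zpowers w ≤ Γ := sup_le hAΓ (zpowers_le.mpr hwΓ)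
  obtain ⟨R2, hR2, hAR2⟩ := exists_isSyl (h.syl.two.to_le hAw) hAwΓ
  have hAR : A ≤ R2 := le_sup_left.trans hAR2
  have hwR : w ∈ R2 := hAR2 (mem_sup_right (mem_zpowers w))
  obtain ⟨m, -, hm⟩ := exists_le_cj h.syl hR2.two le_top
  have hmA : cj m A = A := h.wc' (hAR.trans hm)
  have hRN : R2 ≤ normalizer (A : Set G) := hm.trans (h.norm_of_le (hAR.trans hm))
  have hRcard : Nat.card R2 ≤ 2 * q ^ 2 :=
    h.big w hw F (hFC.trans hCA) (fun f hf => hCw f (hFC hf)) hFq R2 hR2.two hAR hwR hRN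
      (fun r hr f hf => mem_cent.mp (hR2.le hr) f hf)
  have hq0 : 0 < q := lt_of_lt_of_le (by norm_num) h.q8
  -- `|R₂ : A| = 2`
  have hRA : Nat.card R2 ≤ 2 * Nat.card A := by rw [h.card]; exact hRcard
  have hR2c : Nat.card R2 = 2 * q ^ 2 := by rw [card_eq_of_card hAR hRA hwR hw.notMem, h.card]
  have hwinv : w⁻¹ = w := inv_eq_of_mul_eq_one_left hw22
  have hwmul : ∀ v ∈ R2, v ∉ A → w * v ∈ A := fun v hv hvA =>
    mul_mem_of_card hAR hRA hwR hw.notMem hv hvA
  have hcentv : ∀ v ∈ R2, v ∉ A → ∀ a ∈ A, a * v = v * a → a ∈ C := by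
    intro v hv hvA a ha hav
    refine ⟨ha, mem_cent1.mpr ?_⟩
    have h1 := h.comm ha (hwmul v hv hvA)
    have e1 : v = w * (w * v) := by rw [← mul_assoc, hw22, one_mul]
    have h2 : (a * w) * (w * v) = (w * a) * (w * v) := by
      calc (a * w) * (w * v) = a * (w * (w * v)) := by group
        _ = v * a := by rw [← e1, hav]
        _ = w * (w * v) * a := by rw [← e1]
        _ = w * ((w * v) * a) := by group
        _ = (w * a) * (w * v) := by rw [← h1]; group
    exact mul_right_cancel h2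
  -- Step 5
  let B : Subgroup G := ext C w hw22 hCw
  have hCelem : ∀ c ∈ C, c * c = 1 := fun c hc => h.elem c (hCA hc)
  have hBelem : ∀ b ∈ B, b * b = 1 := ext_elem hCelem
  have hwC : w ∉ C := fun h1 => hw.notMem (hCA h1)
  have hBcard : Nat.card B = 2 * q := by rw [← hCcard]; exact card_ext hwC
  have hB2 : IsPGroup 2 B := isPGroup_of_elem hBelem
  have hwB : w ∈ B := self_mem_ext
  have hCB : C ≤ B := le_ext
  have hBcomm : ∀ a ∈ B, ∀ b ∈ B, a * b = b * a := fun a ha b hb => comm_of_elem hBelem ha hb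
  have hBΓ : B ≤ Γ := ext_le (hCA.trans hAΓ) hwΓ
  have hBK : B ≤ Γ ⊓ centralizer ({w} : Set G) :=
    le_inf hBΓ (fun b hb => mem_cent1.mpr (hBcomm b hb w hwB))
  have hxelem : ∀ a ∈ cj x A, a * a = 1 := by
    intro a ha
    rw [mem_cj] at ha
    have h1 := h.elem _ ha
    have h2 : a * a = x * (x⁻¹ * a * x * (x⁻¹ * a * x)) * x⁻¹ := by group
    rw [h2, h1]
    group
  have hxK : cj x A ≤ Γ ⊓ centralizer ({w} : Set G) := by
    refine le_inf ?_ ?_
    · intro a ha
      rw [mem_cent]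
      intro f hf
      exact comm_of_elem hxelem ha hf.2
    · intro a ha
      rw [mem_cent1]
      exact comm_of_elem hxelem ha hwx
  obtain ⟨R3, hR3, hBR3⟩ := exists_isSyl hB2 hBK
  have hR3c : q ^ 2 ≤ Nat.card R3 := by
    have h1 := card_le_of_syl hR3 (isPGroup_cj (g := x) hA2) hxK
    rwa [card_cj, h.card] at h1
  obtain ⟨g, hg, hgR⟩ := exists_le_cj hR2 hR3.two (hR3.le.trans inf_le_left)
  have hgR' : cj g⁻¹ R3 ≤ R2 := le_cj_iff.mp hgR
  set w' : G := g⁻¹ * w * g with hw'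
  have hw'R : w' ∈ R2 := mem_cj.mp (hgR (hBR3 hwB))
  have hw'A : w' ∈ A := by
    by_contra hcon
    have h1 : cj g⁻¹ R3 ⊓ A ≤ C := by
      intro a ha
      refine hcentv w' hw'R hcon a ha.2 ?_
      have h2 := mem_cj.mp ha.1
      rw [inv_inv] at h2
      have h3 := mem_cent1.mp (hR3.le h2).2
      have h4 : a * w' = g⁻¹ * (g * a * g⁻¹ * w) * g := by rw [hw']; group
      have h5 : w' * a = g⁻¹ * (w * (g * a * g⁻¹)) * g := by rw [hw']; group
      rw [h4, h5, h3]
    have h2 := card_inf_ge hgR' hAR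
    have h3 := Subgroup.card_le_of_le h1
    rw [hCcard] at h3
    rw [card_cj, h.card, hR2c] at h2
    have h4 : q ^ 2 * q ^ 2 ≤ 2 * q ^ 2 * q :=
      (Nat.mul_le_mul_right _ hR3c).trans (h2.trans (Nat.mul_le_mul_left _ h3))
    have h5 : 0 < q ^ 2 := by positivity
    have h6 : q ^ 2 ≤ 2 * q := by
      have : q ^ 2 * q ^ 2 ≤ q ^ 2 * (2 * q) := by
        calc q ^ 2 * q ^ 2 ≤ 2 * q ^ 2 * q := h4
          _ = q ^ 2 * (2 * q) := by ring
      exact Nat.le_of_mul_le_mul_left this h5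
    nlinarith [h.q8]
  obtain ⟨k, hk⟩ := h.q_pow
  have hk3 : 3 ≤ k := by
    by_contra hlt
    push Not at hlt
    have : k = 0 ∨ k = 1 ∨ k = 2 := by omega
    have h8 := h.q8
    rcases this with rfl | rfl | rfl <;> norm_num at hk <;> omega
  -- the transvections of `A`
  have hmove : ∀ b ∈ C, ∃ a ∈ A, a * w * a⁻¹ = w * b := fun b hb => h.move w hw b hb.1 (hCw b hb)
  by_cases hBA : cj g⁻¹ B ≤ A
  · -- Case I
    have hBA' : B ≤ cj g A := by
      rw [le_cj_iff]
      exact hBA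
    have hgelem : ∀ a ∈ cj g A, a * a = 1 := by
      intro a ha
      rw [mem_cj] at ha
      have h1 := h.elem _ ha
      have h2 : a * a = g * (g⁻¹ * a * g * (g⁻¹ * a * g)) * g⁻¹ := by group
      rw [h2, h1]
      group
    have h1 := trans_dvd (Γ := Γ) (D := C) (K := cj g A) (w := w)
      (fun b hb => by
        obtain ⟨a, ha, haw⟩ := hmove b hb
        exact ⟨a, hAΓ ha, fun c hc => h.comm ha (hCA hc), haw⟩)
      (cj_le_of_mem hg hAΓ)
      (fun a ha => comm_of_elem hgelem ha (hBA' hwB))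
      (fun a ha c hc => comm_of_elem hgelem ha (hBA' (hCB hc)))
    rw [card_cj, h.card, hCcard, hk, ← pow_mul, ← pow_add] at h1
    have h2 := card_le_of_dvd_syl hR2 h1
    rw [hR2c, hk, ← pow_mul, ← pow_succ'] at h2
    have h3 := (Nat.pow_le_pow_iff_right (by norm_num : 1 < 2)).mp h2
    omega
  · -- Case II
    have hgBR : cj g⁻¹ B ≤ R2 := (cj_mono hBR3).trans hgR'
    have hgBelem : ∀ b ∈ cj g⁻¹ B, b * b = 1 := by
      intro b hb
      rw [mem_cj, inv_inv] at hb
      have h1 := hBelem _ hb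
      have h2 : b * b = g⁻¹ * (g * b * g⁻¹ * (g * b * g⁻¹)) * g := by group
      rw [h2, h1]
      group
    have hBB : cj g⁻¹ B ≤ B := by
      obtain ⟨v, hvB, hvA⟩ := SetLike.not_le_iff_exists.mp hBA
      have hvR := hgBR hvB
      intro b hb
      by_cases hbA : b ∈ A
      · exact hCB (hcentv v hvR hvA b hbA (comm_of_elem hgBelem hb hvB))
      · -- `b = w a`, `b² = 1`
        have hbR := hgBR hb
        have h1 := hwmul b hbR hbA
        have h2 := hgBelem b hb
        right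
        refine ⟨h1, mem_cent1.mpr ?_⟩
        have h3 : b⁻¹ = b := inv_eq_of_mul_eq_one_left h2
        have h4 : (w * b)⁻¹ = w * b := inv_eq_of_mul_eq_one_left (h.elem _ h1)
        calc w * b * w = (w * b)⁻¹ * w := by rw [h4]
          _ = b⁻¹ * w⁻¹ * w := by rw [mul_inv_rev]
          _ = b := by rw [h3, inv_mul_cancel_right]
          _ = w * (w * b) := by rw [← mul_assoc, hw22, one_mul]
    have hBeq : cj g⁻¹ B = B := Subgroup.eq_of_le_of_card_ge hBB (by rw [card_cj])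
    have hw'B : w' ∈ B := by
      rw [← hBeq, mem_cj, inv_inv]
      have : g * w' * g⁻¹ = w := by rw [hw']; group
      rw [this]
      exact hwB
    have hw'C : w' ∈ C := by
      refine ⟨hw'A, mem_cent1.mpr (hBcomm _ hw'B _ hwB)⟩
    have hw'C2 : w' ∉ cj g⁻¹ C := by
      intro h1
      rw [mem_cj, inv_inv] at h1
      have : g * w' * g⁻¹ = w := by rw [hw']; group
      rw [this] at h1
      exact hwC h1
    have hC2 : ¬ cj g⁻¹ C ≤ C := by
      intro h1
      have h2 := Subgroup.eq_of_le_of_card_ge h1 (by rw [card_cj])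
      rw [h2] at hw'C2
      exact hw'C2 hw'C
    obtain ⟨u, huC2, huC⟩ := SetLike.not_le_iff_exists.mp hC2
    have huB : u ∈ B := hBB (cj_mono hCB huC2)
    have hguC : g * u * g⁻¹ ∈ C := by
      have := mem_cj.mp huC2
      rwa [inv_inv] at this
    have hwu : w * u ∈ C := by
      rcases huB with h1 | h1
      · exact absurd h1 huC
      · exact h1
    have hgF : ∀ f ∈ F, g * f * g⁻¹ = f := fun f hf => conj_eq_iff_comm.mpr (mem_cent.mp hg f hf)
    -- first count
    have h1 := trans_dvd (Γ := Γ) (D := F) (K := Γ ⊓ centralizer ({u} : Set G)) (w := u)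
      (fun b hb => by
        obtain ⟨a, ha, haw⟩ := hmove b (hFC hb)
        refine ⟨a, hAΓ ha, fun c hc => h.comm ha (hCA (hFC hc)), ?_⟩
        have e1 : u = w * (w * u) := by rw [← mul_assoc, hw22, one_mul]
        have h2 := conj_eq_iff_comm.mpr (h.comm ha (hCA hwu))
        have h3 := h.comm (hCA (hFC hb)) (hCA hwu)
        calc a * u * a⁻¹ = a * (w * (w * u)) * a⁻¹ := by rw [← e1]
          _ = (a * w * a⁻¹) * (a * (w * u) * a⁻¹) := by group
          _ = (w * b) * (w * u) := by rw [haw, h2]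
          _ = w * (b * (w * u)) := by group
          _ = w * ((w * u) * b) := by rw [h3]
          _ = u * b := by rw [← mul_assoc, ← e1])
      inf_le_left
      (fun a ha => mem_cent1.mp ha.2)
      (fun a ha c hc => mem_cent.mp ha.1 c hc)
    -- second count
    have h2 := trans_dvd (Γ := Γ ⊓ centralizer ({u} : Set G)) (D := F) (K := B) (w := w')
      (fun b hb => by
        obtain ⟨a, ha, haw⟩ := hmove b (hFC hb)
        refine ⟨g⁻¹ * a * g, Subgroup.mem_inf.mpr ⟨mul_mem (mul_mem (inv_mem hg) (hAΓ ha)) hg, ?_⟩, ?_, ?_⟩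
        · rw [mem_cent1]
          have h3 := h.comm ha (hCA hguC)
          calc g⁻¹ * a * g * u = g⁻¹ * (a * (g * u * g⁻¹)) * g := by group
            _ = g⁻¹ * ((g * u * g⁻¹) * a) * g := by rw [h3]
            _ = u * (g⁻¹ * a * g) := by group
        · intro c hc
          exact mem_cent.mp (mul_mem (mul_mem (inv_mem hg) (hAΓ ha)) hg) c hc
        · have h4 : g⁻¹ * b * g = b := by
            have := hgF b hb
            calc g⁻¹ * b * g = g⁻¹ * (g * b * g⁻¹) * g := by rw [this]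
              _ = b := by group
          calc g⁻¹ * a * g * w' * (g⁻¹ * a * g)⁻¹ = g⁻¹ * (a * w * a⁻¹) * g := by rw [hw']; group
            _ = g⁻¹ * (w * b) * g := by rw [haw]
            _ = (g⁻¹ * w * g) * (g⁻¹ * b * g) := by group
            _ = w' * b := by rw [h4])
      (le_inf hBΓ (fun b hb => mem_cent1.mpr (hBcomm b hb u huB)))
      (fun b hb => hBcomm b hb w' hw'B)
      (fun b hb c hc => hBcomm b hb c (hCB (hFC hc)))
    obtain ⟨j, hj⟩ := exists_two_pow (hA2.to_le (hFC.trans hCA))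
    rw [hj, hBcard, hk, ← pow_succ', ← pow_add] at h2
    have h3 := (Nat.mul_dvd_mul_right h2 (Nat.card F)).trans h1
    rw [hj, ← pow_add] at h3
    have h4 := card_le_of_dvd_syl hR2 h3
    rw [hR2c, hk, ← pow_mul, ← pow_succ'] at h4
    have h5 := (Nat.pow_le_pow_iff_right (by norm_num : 1 < 2)).mp h4
    rw [hj, hk, ← pow_succ'] at hFq
    have h6 := (Nat.pow_le_pow_iff_right (by norm_num : 1 < 2)).mp hFq
    omega

/-- **`A` is strongly closed in `S`** -/
theorem Hyp.strong [Finite G] (h : Hyp S A q) : ∀ a ∈ A, ∀ g : G, g * a * g⁻¹ ∈ S → g * a * g⁻¹ ∈ A := by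
  intro a ha g hg
  by_contra hcon
  have ha1 : a ≠ 1 := by
    rintro rfl
    apply hcon
    have : g * 1 * g⁻¹ = 1 := by group
    rw [this]
    exact one_mem _
  have ha2 : orderOf a = 2 := by
    rw [orderOf_eq_prime_iff]
    exact ⟨by rw [pow_two]; exact h.elem a ha, ha1⟩
  refine h.main (w := g * a * g⁻¹) ⟨hg, hcon, by rw [orderOf_conj, ha2], g⁻¹, ?_⟩
  have : g⁻¹ * (g * a * g⁻¹) * g⁻¹⁻¹ = a := by group
  rw [this]
  exact ha

end Cfsg.Agent.OddHalf.D4.RkEnd.SC
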