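import Mathlib
import Cfsg.Agent.OddHalf.D4.RkEnd.Frame
import Cfsg.Agent.OddHalf.D4.RkEnd.SC

/-!
# ODD, D4, rank one ends: the affine cases without swap

`affC`: squares on `E` are nontrivial outside `P`, `A` weakly closed: `P` is strongly closed.
`affZ`: `E` elementary without elements of `II`: `E` is strongly closed.
-/

set_option autoImplicit false

namespace Cfsg.Agent.OddHalf.D4.RkEnd.Aff

open Subgroup Cfsg.Agent.OddHalf.D4.Basic Cfsg.Agent.OddHalf.D4.CommConj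
open Cfsg.Agent.OddHalf.D4.RkEnd.Tools Cfsg.Agent.OddHalf.D4.RkEnd.End
open Cfsg.Agent.OddHalf.D4.RkEnd.TR (Conj)
open Cfsg.Agent.OddHalf.D4.RkEnd.DG (Bad)
open scoped commutatorElement

universe u

variable {G : Type u} [Group G]

/-- a nontrivial normal section of a 2-group has a fixed point -/
theorem exists_fixed [Finite G] {S N P : Subgroup G} (hS : IsPGroup 2 S) (hNS : N ≤ S)
    (hN : ∀ s ∈ S, ∀ x ∈ N, s * x * s⁻¹ ∈ N) (hP : ∀ s ∈ S, ∀ x ∈ P, s * x * s⁻¹ ∈ P)
    (hne : ∃ x ∈ N, x ∉ P) : ∃ x ∈ N, x ∉ P ∧ ∀ s ∈ S, s * x * s⁻¹ * x⁻¹ ∈ P := by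
  have : Fact (Nat.Prime 2) := ⟨Nat.prime_two⟩
  have hPn : (P.subgroupOf S).Normal := by
    refine ⟨fun n hn g => ?_⟩
    rw [mem_subgroupOf] at hn ⊢
    exact hP g g.2 n hn
  have hNn : (N.subgroupOf S).Normal := by
    refine ⟨fun n hn g => ?_⟩
    rw [mem_subgroupOf] at hn ⊢
    exact hN g g.2 n hn
  let π : S →* S ⧸ P.subgroupOf S := QuotientGroup.mk' (P.subgroupOf S)
  have hQ : IsPGroup 2 (S ⧸ P.subgroupOf S) := hS.to_quotient _
  have hM : ((N.subgroupOf S).map π).Normal := hNn.map π (QuotientGroup.mk'_surjective _)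
  have hM1 : (N.subgroupOf S).map π ≠ ⊥ := by
    intro h
    obtain ⟨x, hx, hxP⟩ := hne
    apply hxP
    have h1 : π ⟨x, hNS hx⟩ ∈ (N.subgroupOf S).map π := mem_map_of_mem π (mem_subgroupOf.mpr hx)
    rw [h, mem_bot] at h1
    have h2 := (QuotientGroup.eq_one_iff _).mp h1
    exact mem_subgroupOf.mp h2
  obtain ⟨z, hz, hzc, hz2⟩ :=
    Cfsg.Agent.Involutions.NormalFour.exists_mem_center_of_normal hQ ((N.subgroupOf S).map π) hM1
  obtain ⟨x, hx, rfl⟩ := hz
  refine ⟨x, mem_subgroupOf.mp hx, ?_, ?_⟩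
  · intro hxP
    have h1 : π x = 1 := (QuotientGroup.eq_one_iff _).mpr (mem_subgroupOf.mpr hxP)
    rw [h1, orderOf_one] at hz2
    omega
  · intro s hs
    have h1 := mem_center_iff.mp hzc (π ⟨s, hs⟩)
    have h2 : π (⟨s, hs⟩ * x * (⟨s, hs⟩ : S)⁻¹ * x⁻¹) = 1 := by
      rw [map_mul, map_mul, map_mul, map_inv, map_inv, h1]
      group
    have h3 := (QuotientGroup.eq_one_iff _).mp h2
    exact mem_subgroupOf.mp h3

/-- a subgroup covered by two subgroups lies in one of them -/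
theorem le_or_le {X A E : Subgroup G} (h : ∀ x ∈ X, x ∈ A ∨ x ∈ E) : X ≤ A ∨ X ≤ E := by
  by_contra hcon
  push Not at hcon
  obtain ⟨⟨a, ha, haA⟩, ⟨b, hb, hbE⟩⟩ := (And.intro (SetLike.not_le_iff_exists.mp hcon.1)
    (SetLike.not_le_iff_exists.mp hcon.2))
  have haE : a ∈ E := (h a ha).resolve_left haA
  have hbA : b ∈ A := (h b hb).resolve_right hbE
  rcases h (a * b) (mul_mem ha hb) with h1 | h1
  · exact haA (by have := mul_mem h1 (inv_mem hbA); rwa [mul_inv_cancel_right] at this)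
  · exact hbE (by have := mul_mem (inv_mem haE) h1; rwa [inv_mul_cancel_left] at this)

variable {S A E P : Subgroup G} {q : ℕ} {II : G → Prop}

namespace Frame0

/-- `a e` of square 1, `E` arbitrary: `[a, e] e² = 1` -/
theorem sq_eq (f : Frame0 S A E P q II) {a e : G} (ha : a ∈ A) (he : e ∈ E) :
    (a * e) * (a * e) = (a * e * a⁻¹ * e⁻¹) * (e * e) := by
  have h1 := f.elemA a ha
  have h2 : a⁻¹ = a := inv_eq_of_mul_eq_one_left h1
  have h3 := f.commPE (f.brP a ha e he) (mul_mem he he)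
  calc (a * e) * (a * e) = (a * e * a⁻¹ * e⁻¹) * (e * (a * a) * e) := by group
    _ = _ := by rw [h1, mul_one]

/-- involutions of `A E` when `E` is elementary -/
theorem inv_AE (f : Frame0 S A E P q II) (hE : ∀ e ∈ E, e * e = 1) {a e : G} (ha : a ∈ A) (he : e ∈ E)
    (h : (a * e) * (a * e) = 1) : a * e ∈ A ∨ a * e ∈ E := by
  rw [f.sq_eq ha he, hE e he, mul_one, mul_inv_eq_one, mul_inv_eq_iff_eq_mul] at h
  by_cases haP : a ∈ P
  · exact Or.inr (mul_mem (f.PE haP) he)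
  · exact Or.inl (mul_mem ha (f.PA (f.brA a ha haP e he h)))

/-- the commutator is additive in `A` -/
theorem br_mul' (f : Frame0 S A E P q II) {x x' e : G} (hx : x ∈ A) (hx' : x' ∈ A) (he : e ∈ E) :
    (x * x') * e * (x * x')⁻¹ * e⁻¹ = (x * e * x⁻¹ * e⁻¹) * (x' * e * x'⁻¹ * e⁻¹) := by
  have h0 := f.brP x' hx' e he
  have h1 := f.commPA h0 hx
  have h2 := f.commPP h0 (f.brP x hx e he)
  calc (x * x') * e * (x * x')⁻¹ * e⁻¹
      = (x * (x' * e * x'⁻¹ * e⁻¹)) * (e * x⁻¹ * e⁻¹) := by group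
    _ = ((x' * e * x'⁻¹ * e⁻¹) * x) * (e * x⁻¹ * e⁻¹) := by rw [h1]
    _ = (x' * e * x'⁻¹ * e⁻¹) * (x * e * x⁻¹ * e⁻¹) := by group
    _ = _ := by rw [h2]

/-- the invariance of `[x, e]` under an element fixing `x`, `e` mod `P` -/
theorem br_fixed (f : Frame0 S A E P q II) {s x e : G} (hx : x ∈ A) (he : e ∈ E)
    (hxs : s * x * s⁻¹ * x⁻¹ ∈ P) (hes : s * e * s⁻¹ * e⁻¹ ∈ P) :
    (x * e * x⁻¹ * e⁻¹) * s = s * (x * e * x⁻¹ * e⁻¹) := by
  have h0 := f.brP x hx e he
  set a : G := s * x * s⁻¹ * x⁻¹ with ha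
  set b : G := s * e * s⁻¹ * e⁻¹ with hb
  have e1 : s * x * s⁻¹ = a * x := by rw [ha]; group
  have e2 : s * e * s⁻¹ = b * e := by rw [hb]; group
  have h1 : s * (x * e * x⁻¹ * e⁻¹) * s⁻¹ = x * e * x⁻¹ * e⁻¹ := by
    have c1 : x * b = b * x := (f.commPA hes hx).symm
    have c2 : a * e = e * a := f.commPE hxs he
    have c3 : a * b = b * a := f.commPP hxs hes
    have c4 : a * (x * e * x⁻¹ * e⁻¹) = (x * e * x⁻¹ * e⁻¹) * a := f.commPP hxs h0
    have c5 : b * (x * e * x⁻¹ * e⁻¹) = (x * e * x⁻¹ * e⁻¹) * b := f.commPP hes h0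
    calc s * (x * e * x⁻¹ * e⁻¹) * s⁻¹
        = (s * x * s⁻¹) * (s * e * s⁻¹) * (s * x * s⁻¹)⁻¹ * (s * e * s⁻¹)⁻¹ := by group
      _ = (a * x) * (b * e) * (a * x)⁻¹ * (b * e)⁻¹ := by rw [e1, e2]
      _ = a * (x * b) * e * x⁻¹ * a⁻¹ * e⁻¹ * b⁻¹ := by group
      _ = (a * b) * x * e * x⁻¹ * a⁻¹ * e⁻¹ * b⁻¹ := by rw [c1]; group
      _ = (b * a) * x * e * x⁻¹ * a⁻¹ * e⁻¹ * b⁻¹ := by rw [c3]
      _ = b * (a * (x * e * x⁻¹ * e⁻¹)) * (e * a⁻¹) * e⁻¹ * b⁻¹ := by group
      _ = b * ((x * e * x⁻¹ * e⁻¹) * a) * (e * a⁻¹) * e⁻¹ * b⁻¹ := by rw [c4]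
      _ = b * (x * e * x⁻¹ * e⁻¹) * (a * e) * a⁻¹ * e⁻¹ * b⁻¹ := by group
      _ = b * (x * e * x⁻¹ * e⁻¹) * (e * a) * a⁻¹ * e⁻¹ * b⁻¹ := by rw [c2]
      _ = (b * (x * e * x⁻¹ * e⁻¹)) * b⁻¹ := by group
      _ = ((x * e * x⁻¹ * e⁻¹) * b) * b⁻¹ := by rw [c5]
      _ = x * e * x⁻¹ * e⁻¹ := by group
  exact (conj_eq_iff_comm.mp h1).symm

/-- `|X| ≤ |X ∩ P| |C_P(s)|` for `X ≤ A` -/
theorem card_A_le [Finite G] (f : Frame0 S A E P q II) {s e : G} (he : e ∈ E) (heP : e ∉ P)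
    (hes : s * e * s⁻¹ * e⁻¹ ∈ P) {X : Subgroup G} (hX : X ≤ A)
    (hXs : ∀ x ∈ X, s * x * s⁻¹ * x⁻¹ ∈ P) :
    Nat.card X ≤ Nat.card (X ⊓ P : Subgroup G) *
      Nat.card (P ⊓ centralizer ({s} : Set G) : Subgroup G) := by
  let φ : X →* (P ⊓ centralizer ({s} : Set G) : Subgroup G) :=
    { toFun := fun x => ⟨(x : G) * e * (x : G)⁻¹ * e⁻¹, f.brP x (hX x.2) e he,
        mem_cent1.mpr (f.br_fixed (hX x.2) he (hXs x x.2) hes)⟩
      map_one' := by
        apply Subtype.ext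
        simp
      map_mul' := by
        intro x x'
        apply Subtype.ext
        exact f.br_mul' (hX x.2) (hX x'.2) he }
  have h1 : Nat.card φ.ker * φ.ker.index = Nat.card X := Subgroup.card_mul_index _
  rw [Subgroup.index_ker] at h1
  have h2 : φ.ker ≤ (X ⊓ P).subgroupOf X := by
    intro x hx
    rw [MonoidHom.mem_ker] at hx
    have h3 : (x : G) * e * (x : G)⁻¹ * e⁻¹ = 1 := congrArg Subtype.val hx
    rw [mem_subgroupOf]
    refine ⟨x.2, f.brE (hX x.2) he heP ?_⟩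
    rw [mul_inv_eq_one, mul_inv_eq_iff_eq_mul] at h3
    exact h3
  have h3 := Subgroup.card_le_of_le h2
  rw [Nat.card_congr (Subgroup.subgroupOfEquivOfLe (inf_le_left : X ⊓ P ≤ X)).toEquiv] at h3
  rw [← h1]
  exact Nat.mul_le_mul h3 (Subgroup.card_le_card_group φ.range)

end Frame0

/-- elements of square 1 of `C_S(P)`, `E` elementary -/
structure NoSwap (S A E P : Subgroup G) : Prop where
  normA : ∀ s ∈ S, ∀ a ∈ A, s * a * s⁻¹ ∈ A
  normE : ∀ s ∈ S, ∀ e ∈ E, s * e * s⁻¹ ∈ E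
  cent : ∀ s ∈ S, s ∈ centralizer (P : Set G) → ∃ a ∈ A, ∃ e ∈ E, s = a * e

/-- **the affine case `c ≠ 0`** -/
theorem affC_strong [Finite G] (f : Frame S A E P q II) (n : NoSwap S A E P)
    (wcA : ∀ g : G, cj g A ≤ S → cj g A = A) (cne : ∀ e ∈ E, e * e = 1 → e ∈ P)
    (two : ∀ x ∈ A, ∀ x' ∈ A, ∀ e ∈ E, ∀ e' ∈ E, e ∉ P → e' ∉ P → (x * e) * (x * e) = 1 →
      (x' * e') * (x' * e') = 1 → x * x' ∈ P) :
    ∀ a ∈ P, ∀ g : G, g * a * g⁻¹ ∈ S → g * a * g⁻¹ ∈ P := by
  have hdec : ∀ w ∈ S, w ∈ centralizer (P : Set G) → w ∉ P → Conj P w →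
      ∃ a ∈ A, ∃ e ∈ E, w = a * e ∧ e ∉ P ∧ a ∉ P := by
    intro w hw hwc hwP hconj
    obtain ⟨a, ha, e, he, rfl⟩ := n.cent w hw hwc
    refine ⟨a, ha, e, he, rfl, fun heP => ?_, fun haP => ?_⟩
    · exact f.not_II hconj (f.AII _ (mul_mem ha (f.PA heP)) hwP)
    · exact hwP (cne _ (mul_mem (f.PE haP) he) (mul_self_of hconj.1))
  refine f.strongP ?_ ?_ ?_ ?_
  · intro x hx y hy hxc hyc hxP hyP hxC hyC hxy
    obtain ⟨a, ha, e, he, rfl, heP, haP⟩ := hdec x hx hxc hxP hxC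
    obtain ⟨a', ha', e', he', rfl, heP', haP'⟩ := hdec y hy hyc hyP hyC
    have h1 := two a ha a' ha' e he e' he' heP heP' (mul_self_of hxC.1) (mul_self_of hyC.1)
    apply cne
    · have h2 : a * e * (a' * e') = (a * a') * ((a'⁻¹ * e * a'⁻¹⁻¹ * e⁻¹) * e * e') := by group
      rw [h2]
      exact mul_mem (f.PE h1) (mul_mem (mul_mem (f.PE (f.brP _ (inv_mem ha') e he)) he) he')
    · calc a * e * (a' * e') * (a * e * (a' * e')) = a * e * ((a' * e') * (a * e)) * (a' * e') := by group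
        _ = a * e * ((a * e) * (a' * e')) * (a' * e') := by rw [hxy]
        _ = ((a * e) * (a * e)) * ((a' * e') * (a' * e')) := by group
        _ = 1 := by rw [mul_self_of hxC.1, mul_self_of hyC.1, one_mul]
  · intro w hw hwc hwP hconj p hp
    obtain ⟨a, ha, e, he, rfl, heP, haP⟩ := hdec w hw hwc hwP hconj
    obtain ⟨d, hd, hdp⟩ := f.surj a ha haP p hp
    refine ⟨d, f.E_cent hd, ?_⟩
    have h1 := f.commE d hd e he
    have h2 : d * a * d⁻¹ = a * p := by
      have h3 : a * d * a⁻¹ * d⁻¹ = p⁻¹ := by rw [hdp, f.inv_eq hp]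
      have h4 := f.commPA hp ha
      calc d * a * d⁻¹ = (a * d * a⁻¹ * d⁻¹)⁻¹ * a := by group
        _ = p * a := by rw [h3, inv_inv]
        _ = a * p := h4
    have h3 := f.commPE hp he
    calc d * (a * e) * d⁻¹ = (d * a * d⁻¹) * (d * e) * d⁻¹ := by group
      _ = (a * p) * (e * d) * d⁻¹ := by rw [h2, h1]
      _ = a * (p * e) := by group
      _ = a * (e * p) := by rw [h3]
      _ = a * e * p := by group
  · intro x hx
    have h0 : A ≤ S ⊓ centralizer (P : Set G) := fun a ha => ⟨f.AS ha, f.A_cent ha⟩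
    have h1 : A ≤ cj x S := h0.trans hx
    have h2 := wcA x⁻¹ (le_cj_iff.mp h1)
    have h3 : cj x A = A := by
      rw [cj_eq_iff, inv_inv] at h2
      exact h2.symm
    apply Subgroup.eq_of_le_of_card_ge
    · rintro _ ⟨p, hp, rfl⟩
      show x * p * x⁻¹ ∈ P
      have h4 : x * p * x⁻¹ ∈ A := by
        rw [← h3]
        exact mem_cj_mul (f.PA hp)
      by_contra h5
      have h6 := f.IIc x⁻¹ _ (f.AII _ h4 h5)
      have h7 : x⁻¹ * (x * p * x⁻¹) * x⁻¹⁻¹ = p := by group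
      rw [h7] at h6
      exact f.PII p hp h6
    · rw [card_cj]
  · intro w hw p hp hpw X hX
    exact f.der_field hw (n.normA w hw.mem) (n.normE w hw.mem) hp hpw hX

/-- **the affine case `c ≠ 0`** is impossible in a simple group -/
theorem affC [Finite G] [IsSimpleGroup G] (gold : Cfsg.Agent.StdSz.EndClosed.Gold.{u})
    (f : Frame S A E P q II) (n : NoSwap S A E P)
    (wcA : ∀ g : G, cj g A ≤ S → cj g A = A) (cne : ∀ e ∈ E, e * e = 1 → e ∈ P)
    (two : ∀ x ∈ A, ∀ x' ∈ A, ∀ e ∈ E, ∀ e' ∈ E, e ∉ P → e' ∉ P → (x * e) * (x * e) = 1 →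
      (x' * e') * (x' * e') = 1 → x * x' ∈ P) : False :=
  f.false_of_strongP gold (affC_strong f n wcA cne two)

/-- the fixed point of `S` on `A / P` -/
theorem Frame.fixA [Finite G] (f : Frame S A E P q II) (n : NoSwap S A E P) :
    ∃ x ∈ A, x ∉ P ∧ ∀ s ∈ S, s * x * s⁻¹ * x⁻¹ ∈ P :=
  exists_fixed f.syl.two f.AS n.normA f.normP f.AnP

theorem Frame.fixE [Finite G] (f : Frame S A E P q II) (n : NoSwap S A E P) :
    ∃ x ∈ E, x ∉ P ∧ ∀ s ∈ S, s * x * s⁻¹ * x⁻¹ ∈ P :=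
  exists_fixed f.syl.two f.ES n.normE f.normP f.EnP

theorem cm_one {s x : G} (h : s * x = x * s) : s * x * s⁻¹ * x⁻¹ = 1 := by
  rw [mul_inv_eq_one, mul_inv_eq_iff_eq_mul]
  exact h

/-- a subgroup of `E` centralized by `s` -/
theorem Frame.cent_E [Finite G] (f : Frame S A E P q II) (n : NoSwap S A E P) {s : G} (hs : s ∈ S)
    {X : Subgroup G} (hX : X ≤ E) (hXs : ∀ e ∈ X, s * e = e * s) :
    Nat.card X ≤ Nat.card (P ⊓ centralizer ({s} : Set G) : Subgroup G) ^ 2 := by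
  obtain ⟨x, hx, hxP, hxs⟩ := f.fixA n
  have h1 := f.card_E_le hx hxP (hxs s hs) hX (fun e he => by rw [cm_one (hXs e he)]; exact one_mem _)
  rw [pow_two]
  refine h1.trans (Nat.mul_le_mul_right _ (Subgroup.card_le_of_le ?_))
  intro e he
  exact ⟨he.2, mem_cent1.mpr (hXs e he.1).symm⟩

/-- a subgroup of `A` centralized by `s` -/
theorem Frame.cent_A [Finite G] (f : Frame S A E P q II) (n : NoSwap S A E P) {s : G} (hs : s ∈ S)
    {X : Subgroup G} (hX : X ≤ A) (hXs : ∀ e ∈ X, s * e = e * s) :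
    Nat.card X ≤ Nat.card (P ⊓ centralizer ({s} : Set G) : Subgroup G) ^ 2 := by
  obtain ⟨x, hx, hxP, hxs⟩ := f.fixE n
  have h1 := f.card_A_le hx hxP (hxs s hs) hX (fun e he => by rw [cm_one (hXs e he)]; exact one_mem _)
  rw [pow_two]
  refine h1.trans (Nat.mul_le_mul_right _ (Subgroup.card_le_of_le ?_))
  intro e he
  exact ⟨he.2, mem_cent1.mpr (hXs e he.1).symm⟩

/-- **the affine case `c = 0` without `II` in `E`**: the hypotheses of `SC` for `E` -/
theorem affZ_sc [Finite G] (f : Frame S A E P q II) (n : NoSwap S A E P)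
    (elemE : ∀ e ∈ E, e * e = 1) (EII : ∀ e ∈ E, ¬ II e) :
    SC.Hyp S E q := by
  have hq8 := f.q8
  -- elements of square 1 in `C_S(P)`
  have hinv : ∀ t ∈ S, t ∈ centralizer (P : Set G) → t * t = 1 → t ∈ A ∨ t ∈ E := by
    intro t ht htc ht2
    obtain ⟨a, ha, e, he, rfl⟩ := n.cent t ht htc
    exact f.inv_AE elemE ha he ht2
  have hinv' : ∀ t ∈ S, t ∈ centralizer (P : Set G) → t * t = 1 → ¬ II t → t ∈ E := by
    intro t ht htc ht2 htI
    rcases hinv t ht htc ht2 with h1 | h1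
    · by_cases h2 : t ∈ P
      · exact f.PE h2
      · exact absurd (f.AII t h1 h2) htI
    · exact h1
  have hbadI : ∀ w, SC.Bad S E w → ¬ II w := by
    intro w hw hI
    obtain ⟨g, hg⟩ := hw.conj
    exact EII _ hg (f.IIc g w hI)
  have hbadC : ∀ w, SC.Bad S E w → w ∉ centralizer (P : Set G) := by
    intro w hw hc
    exact hw.notMem (hinv' w hw.mem hc (mul_self_of hw.invol) (hbadI w hw))
  have hidx : ∀ X : Subgroup G, X ≤ S → (∀ x ∈ X, x * x ∈ centralizer (P : Set G)) →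
      Nat.card X ≤ 2 * Nat.card (X ⊓ centralizer (P : Set G) : Subgroup G) := by
    intro X hX hX2
    apply card_le_two_mul inf_le_left
    intro x hx hx' y hy hy'
    exact ⟨mul_mem hx hy, f.cyc x (hX hx) y (hX hy) (fun h1 => hx' ⟨hx, h1⟩) (fun h1 => hy' ⟨hy, h1⟩)
      (hX2 x hx) (hX2 y hy)⟩
  have hcle : ∀ w, SC.Bad S E w → Nat.card (E ⊓ centralizer ({w} : Set G) : Subgroup G) ≤ q := by
    intro w hw
    exact (f.cent_E n hw.mem (X := E ⊓ centralizer ({w} : Set G)) inf_le_left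
      (fun e he => (mem_cent1.mp he.2).symm)).trans (f.fix2 w hw.mem (hbadC w hw))
  have hcge : ∀ w, SC.Bad S E w → q ≤ Nat.card (E ⊓ centralizer ({w} : Set G) : Subgroup G) := by
    intro w hw
    have h1 := card_le_sq (A := E) (w := w) elemE (n.normE w hw.mem)
      (fun a _ => by rw [mul_self_of hw.invol]; group)
    rw [f.cardE] at h1
    exact le_of_sq h1
  exact
  { syl := f.syl
    le := f.ES
    elem := elemE
    card := f.cardE
    q8 := f.q8
    wc := by
      intro g hg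
      set X : Subgroup G := cj g E with hX
      have hXelem : ∀ b ∈ X, b * b = 1 := elem_cj elemE g
      have hXc : Nat.card X = q ^ 2 := by rw [hX, card_cj, f.cardE]
      have hXI : ∀ x ∈ X, ¬ II x := by
        rintro _ ⟨e, he, rfl⟩ hI
        have h1 := f.IIc g⁻¹ _ hI
        have h2 : g⁻¹ * (g * e * g⁻¹) * g⁻¹⁻¹ = e := by group
        have h3 : (MulAut.conj g).toMonoidHom e = g * e * g⁻¹ := rfl
        rw [h3, h2] at h1
        exact EII e he h1
      have h1 := hidx X hg (fun x hx => by rw [hXelem x hx]; exact one_mem _)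
      have h2 : X ⊓ centralizer (P : Set G) ≤ E := fun x hx =>
        hinv' x (hg hx.1) hx.2 (hXelem x hx.1) (hXI x hx.1)
      by_cases hC : X ≤ centralizer (P : Set G)
      · apply Subgroup.eq_of_le_of_card_ge
        · intro x hx
          exact h2 ⟨hx, hC hx⟩
        · rw [hXc, f.cardE]
      · exfalso
        obtain ⟨s, hs, hsc⟩ := SetLike.not_le_iff_exists.mp hC
        have h3 := f.cent_E n (hg hs) h2 (fun e he => comm_of_elem hXelem hs he.1)
        have h4 := f.fix2 s (hg hs) hsc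
        have h5 : q ^ 2 ≤ 2 * q := by
          rw [← hXc]
          exact h1.trans (Nat.mul_le_mul_left _ (h3.trans h4))
        nlinarith
    cent := fun w hw => le_antisymm (hcle w hw) (hcge w hw)
    move := by
      intro w hw b hb hbw
      refine exists_move elemE (n.normE w hw.mem) (mul_self_of hw.invol) ?_ hb hbw
      rw [f.cardE]
      exact Nat.pow_le_pow_left (hcle w hw) 2
    half := by
      intro w hw y hwy hC
      have h0 := hcge w hw
      set C : Subgroup G := E ⊓ centralizer ({w} : Set G) with hCdef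
      set C1 : Subgroup G := cj y⁻¹ C with hC1
      have hC1S : C1 ≤ S := le_cj_iff.mp hC
      have hC1elem : ∀ b ∈ C1, b * b = 1 := elem_cj (A := C) (fun c hc => elemE c hc.1) _
      have hC1c : q ≤ Nat.card C1 := by rw [hC1, card_cj]; exact h0
      have hC1E : Nat.card (C1 ⊓ E : Subgroup G) = Nat.card (C ⊓ cj y E : Subgroup G) := by
        rw [← card_cj y, cj_inf, hC1, ← cj_mul, mul_inv_cancel, cj_one]
      rw [← hC1E]
      have hC1I : ∀ x ∈ C1, ¬ II x := by
        rintro _ ⟨e, he, rfl⟩ hI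
        have h1 := f.IIc y _ hI
        have h3 : (MulAut.conj y⁻¹).toMonoidHom e = y⁻¹ * e * y⁻¹⁻¹ := rfl
        have h2 : y * (y⁻¹ * e * y⁻¹⁻¹) * y⁻¹ = e := by group
        rw [h3, h2] at h1
        exact EII e he.1 h1
      have h1 := hidx C1 hC1S (fun x hx => by rw [hC1elem x hx]; exact one_mem _)
      have h2 : C1 ⊓ centralizer (P : Set G) ≤ C1 ⊓ E := fun x hx =>
        ⟨hx.1, hinv' x (hC1S hx.1) hx.2 (hC1elem x hx.1) (hC1I x hx.1)⟩
      exact hC1c.trans (h1.trans (Nat.mul_le_mul_left _ (Subgroup.card_le_of_le h2)))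
    big := by
      intro w hw F hFE hFw hFq R hR2 hER hwR hRN hRF
      have hSN : IsSyl S (normalizer (E : Set G)) := by
        refine f.syl.mono ?_ le_top
        intro s hs
        rw [mem_normalizer_iff]
        intro a
        refine ⟨fun ha => n.normE s hs a ha, fun ha => ?_⟩
        have := n.normE s⁻¹ (inv_mem hs) _ ha
        have e : s⁻¹ * (s * a * s⁻¹) * s⁻¹⁻¹ = a := by group
        rwa [e] at this
      obtain ⟨m, hm, hmS⟩ := hSN.conj_into hR2 hRN
      have hmE : cj m E = E := cj_eq_of_mem_normalizer hm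
      set R1 : Subgroup G := cj m R with hR1
      have hR1S : R1 ≤ S := by
        rintro _ ⟨r, hr, rfl⟩
        exact hmS r hr
      set F1 : Subgroup G := cj m F with hF1
      have hF1E : F1 ≤ E := by rw [← hmE]; exact cj_mono hFE
      have hF1c : q ≤ 2 * Nat.card F1 := by rw [hF1, card_cj]; exact hFq
      have hF1R : ∀ r ∈ R1, ∀ f ∈ F1, r * f = f * r := by
        rintro _ ⟨r, hr, rfl⟩ _ ⟨f, hf, rfl⟩
        have h1 := hRF r hr f hf
        show m * r * m⁻¹ * (m * f * m⁻¹) = m * f * m⁻¹ * (m * r * m⁻¹)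
        calc m * r * m⁻¹ * (m * f * m⁻¹) = m * (r * f) * m⁻¹ := by group
          _ = m * (f * r) * m⁻¹ := by rw [h1]
          _ = m * f * m⁻¹ * (m * r * m⁻¹) := by group
      -- the element `w₁`
      set w1 : G := m * w * m⁻¹ with hw1
      have hw1R : w1 ∈ R1 := mem_cj_mul hwR
      have hw1bad : SC.Bad S E w1 := by
        refine ⟨hR1S hw1R, ?_, by rw [hw1, orderOf_conj, hw.invol], ?_⟩
        · intro h1
          apply hw.notMem
          have h2 : w1 ∈ cj m E := by rw [hmE]; exact h1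
          rw [mem_cj] at h2
          have e : m⁻¹ * w1 * m = w := by rw [hw1]; group
          rwa [e] at h2
        · obtain ⟨g, hg⟩ := hw.conj
          refine ⟨g * m⁻¹, ?_⟩
          have e : g * m⁻¹ * w1 * (g * m⁻¹)⁻¹ = g * w * g⁻¹ := by rw [hw1]; group
          rw [e]
          exact hg
      have hnot : ¬ (Nat.card F1 ^ 2 ≤ q) := by
        intro h1
        nlinarith
      have h1 : R1 ⊓ centralizer (P : Set G) ≤ E := by
        intro t ht
        obtain ⟨a, ha, e, he, rfl⟩ := n.cent t (hR1S ht.1) ht.2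
        by_cases haP : a ∈ P
        · exact mul_mem (f.PE haP) he
        exfalso
        apply hnot
        have h2 : F1 ≤ P ⊓ centralizer ({w1} : Set G) := by
          intro c hc
          refine ⟨?_, mem_cent1.mpr (hF1R w1 hw1R c hc).symm⟩
          apply f.brA a ha haP c (hF1E hc)
          have h3 := hF1R _ ht.1 c hc
          have h4 := f.commE e he c (hF1E hc)
          have h5 : (a * c) * e = (c * a) * e := by
            calc (a * c) * e = a * (c * e) := by group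
              _ = a * (e * c) := by rw [h4]
              _ = (a * e) * c := by group
              _ = c * (a * e) := h3
              _ = (c * a) * e := by group
          exact mul_right_cancel h5
        exact (Nat.pow_le_pow_left (Subgroup.card_le_of_le h2) 2).trans
          (f.fix2 w1 hw1bad.mem (hbadC w1 hw1bad))
      have h2 : ∀ s ∈ R1, s * s ∈ centralizer (P : Set G) := by
        intro s hs
        by_contra hcon
        apply hnot
        have h3 := f.fix4 s (hR1S hs) hcon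
        have h4 := f.cent_E n (hR1S hs) hF1E (fun e he => hF1R s hs e he)
        refine (Nat.pow_le_pow_left h4 2).trans ?_
        rw [← pow_mul]
        exact h3
      have h3 := hidx R1 hR1S h2
      have h4 : Nat.card R1 ≤ 2 * q ^ 2 := by
        refine h3.trans (Nat.mul_le_mul_left _ ?_)
        rw [← f.cardE]
        exact Subgroup.card_le_of_le h1
      rw [hR1, card_cj] at h4
      exact h4 }

/-- **the affine case `c = 0` without `II` in `E`** is impossible in a simple group -/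
theorem affZ [Finite G] [IsSimpleGroup G] (gold : Cfsg.Agent.StdSz.EndClosed.Gold.{u})
    (f : Frame S A E P q II) (n : NoSwap S A E P)
    (elemE : ∀ e ∈ E, e * e = 1) (EII : ∀ e ∈ E, ¬ II e) : False := by
  obtain ⟨x, hx, e, he, hxe⟩ := f.exists_xe
  obtain ⟨y, hy, hyP⟩ := f.AnP
  obtain ⟨p, hp, hp1⟩ := f.exists_pne
  exact false_of_strong gold f.syl f.ES elemE ⟨p, f.PE hp, hp1⟩ (affZ_sc f n elemE EII).strong
    ⟨y, f.AS hy, fun h => hyP (f.AE hy h), f.elemA y hy⟩ ⟨x, f.AS hx, e, f.ES he, hxe⟩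

end Cfsg.Agent.OddHalf.D4.RkEnd.Aff
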