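import Mathlib
import Cfsg.Agent.OddHalf.D4.RkEnd.AffC

/-!
# ODD, D4, rank one ends: the affine case with swap

`A`, `E` elementary of order `q²`, permuted by the Sylow 2-subgroup `S`, `A ∖ P`, `E ∖ P` in `II`: `P` is strongly
closed in `S`.
-/

set_option autoImplicit false
set_option linter.unusedSectionVars false

namespace Cfsg.Agent.OddHalf.D4.RkEnd.Aff

open Subgroup Cfsg.Agent.OddHalf.D4.Basic Cfsg.Agent.OddHalf.D4.CommConj
open Cfsg.Agent.OddHalf.D4.RkEnd.Tools Cfsg.Agent.OddHalf.D4.RkEnd.End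
open Cfsg.Agent.OddHalf.D4.RkEnd.TR (Conj)
open Cfsg.Agent.OddHalf.D4.RkEnd.DG (Bad)
open scoped commutatorElement

universe u

variable {G : Type u} [Group G] {S A E P : Subgroup G} {q : ℕ} {II : G → Prop}

/-- `s` normalizes `A` and `E` -/
def Nm (A E : Subgroup G) (s : G) : Prop := (∀ a ∈ A, s * a * s⁻¹ ∈ A) ∧ ∀ e ∈ E, s * e * s⁻¹ ∈ E

/-- `s` swaps `A` and `E` -/
def Sw (A E : Subgroup G) (s : G) : Prop := (∀ a ∈ A, s * a * s⁻¹ ∈ E) ∧ ∀ e ∈ E, s * e * s⁻¹ ∈ A

theorem Sw.mul {s s' : G} (h : Sw A E s) (h' : Sw A E s') : Nm A E (s * s') := by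
  constructor
  · intro a ha
    have := h.2 _ (h'.1 a ha)
    have e : s * s' * a * (s * s')⁻¹ = s * (s' * a * s'⁻¹) * s⁻¹ := by group
    rw [e]
    exact this
  · intro a ha
    have := h.1 _ (h'.2 a ha)
    have e : s * s' * a * (s * s')⁻¹ = s * (s' * a * s'⁻¹) * s⁻¹ := by group
    rw [e]
    exact this

/-- the swap data -/
structure Swap (S A E P : Subgroup G) (q : ℕ) (II : G → Prop) : Prop where
  elemE : ∀ e ∈ E, e * e = 1
  cardA : Nat.card A = q ^ 2
  EII : ∀ e ∈ E, e ∉ P → II e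
  perm : ∀ s ∈ S, Nm A E s ∨ Sw A E s
  cent : ∀ s ∈ S, s ∈ centralizer (P : Set G) → Nm A E s → ∃ a ∈ A, ∃ e ∈ E, s = a * e

section

variable (f : Frame0 S A E P q II) (n : Swap S A E P q II)

include f n

/-- elements of square 1 of `C_S(P)` that normalize `A`, `E` -/
theorem Swap.inv {t : G} (ht : t ∈ S) (htc : t ∈ centralizer (P : Set G)) (htn : Nm A E t)
    (ht2 : t * t = 1) : t ∈ A ∨ t ∈ E := by
  obtain ⟨a, ha, e, he, rfl⟩ := n.cent t ht htc htn
  exact f.inv_AE n.elemE ha he ht2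

theorem Swap.inv' {t : G} (ht : t ∈ S) (htc : t ∈ centralizer (P : Set G)) (htn : Nm A E t)
    (ht2 : t * t = 1) (htI : ¬ II t) : t ∈ P := by
  rcases n.inv f ht htc htn ht2 with h1 | h1
  · by_contra h2
    exact htI (f.AII t h1 h2)
  · by_contra h2
    exact htI (n.EII t h1 h2)

/-- the map `a ↦ [w a w⁻¹, a]` is additive for a swap `w` centralizing `P` -/
theorem kappa_mul {w : G} (hw : w ∈ centralizer (P : Set G)) (hsw : Sw A E w) (hw2 : w * w = 1)
    {a b : G} (ha : a ∈ A) (hb : b ∈ A) :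
    (w * (a * b) * w⁻¹) * (a * b) * (w * (a * b) * w⁻¹)⁻¹ * (a * b)⁻¹ =
      ((w * a * w⁻¹) * a * (w * a * w⁻¹)⁻¹ * a⁻¹) * ((w * b * w⁻¹) * b * (w * b * w⁻¹)⁻¹ * b⁻¹) := by
  set a' : G := w * a * w⁻¹ with ha'
  set b' : G := w * b * w⁻¹ with hb'
  have ha'E : a' ∈ E := hsw.1 a ha
  have hb'E : b' ∈ E := hsw.1 b hb
  have e0 : w * (a * b) * w⁻¹ = a' * b' := by rw [ha', hb']; group
  rw [e0]
  -- `[a', b] = [a, b']`
  have hab : a * b' * a⁻¹ * b'⁻¹ ∈ P := f.brP a ha b' hb'E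
  have hba : b * a' * b⁻¹ * a'⁻¹ ∈ P := f.brP b hb a' ha'E
  have hwinv : w⁻¹ = w := inv_eq_of_mul_eq_one_left hw2
  have h1 : a' * b * a'⁻¹ * b⁻¹ = a * b' * a⁻¹ * b'⁻¹ := by
    have h2 : w * (a * b' * a⁻¹ * b'⁻¹) * w⁻¹ = a * b' * a⁻¹ * b'⁻¹ :=
      conj_eq_iff_comm.mpr (mem_cent.mp hw _ hab)
    have h3 : w * b' * w⁻¹ = b := by
      rw [hb', hwinv]
      calc w * (w * b * w) * w = (w * w) * b * (w * w) := by group
        _ = b := by rw [hw2]; group
    calc a' * b * a'⁻¹ * b⁻¹ = (w * a * w⁻¹) * (w * b' * w⁻¹) * (w * a * w⁻¹)⁻¹ * (w * b' * w⁻¹)⁻¹ := by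
          rw [h3]
      _ = w * (a * b' * a⁻¹ * b'⁻¹) * w⁻¹ := by group
      _ = a * b' * a⁻¹ * b'⁻¹ := h2
  set v1 : G := a' * b * a'⁻¹ * b⁻¹ with hv1
  set v2 : G := b' * a * b'⁻¹ * a⁻¹ with hv2
  have hv1P : v1 ∈ P := by rw [h1]; exact hab
  have hv12 : v2 * v1 = 1 := by rw [h1, hv2]; group
  have hv2P : v2 ∈ P := by
    have : v2 = v1⁻¹ := eq_inv_of_mul_eq_one_left hv12
    rw [this]
    exact inv_mem hv1P
  set ka : G := a' * a * a'⁻¹ * a⁻¹ with hka
  set kb : G := b' * b * b'⁻¹ * b⁻¹ with hkb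
  have hkaP : ka ∈ P := by
    have : ka = (a * a' * a⁻¹ * a'⁻¹)⁻¹ := by rw [hka]; group
    rw [this]
    exact inv_mem (f.brP a ha a' ha'E)
  have hkbP : kb ∈ P := by
    have : kb = (b * b' * b⁻¹ * b'⁻¹)⁻¹ := by rw [hkb]; group
    rw [this]
    exact inv_mem (f.brP b hb b' hb'E)
  have e1 : b' * a = v2 * (a * b') := by rw [hv2]; group
  have e2 : b' * b = kb * (b * b') := by rw [hkb]; group
  have e3 : a' * b = v1 * (b * a') := by rw [hv1]; group
  have e4 : a' * a = ka * (a * a') := by rw [hka]; group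
  have c1 := f.commE a' ha'E b' hb'E
  have c2 := f.commPE hv2P ha'E
  have c3 := f.commPE hkbP ha'E
  have c4 := f.commPA hkbP ha
  have c5 := f.commPA hv1P ha
  have c6 := f.commPP hkbP hkaP
  -- `a' b' a b = v2 kb v1 ka (a b a' b')`
  have key : a' * b' * (a * b) = (ka * kb) * (a * b * (a' * b')) := by
    calc a' * b' * (a * b) = a' * (b' * a) * b := by group
      _ = a' * (v2 * (a * b')) * b := by rw [e1]
      _ = (a' * v2) * a * (b' * b) := by group
      _ = (v2 * a') * a * (b' * b) := by rw [c2]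
      _ = v2 * (a' * a) * (kb * (b * b')) := by rw [e2]; group
      _ = v2 * a' * (a * kb) * (b * b') := by group
      _ = v2 * a' * (kb * a) * (b * b') := by rw [c4]
      _ = v2 * (a' * kb) * a * (b * b') := by group
      _ = v2 * (kb * a') * a * (b * b') := by rw [c3]
      _ = v2 * kb * (a' * a) * (b * b') := by group
      _ = v2 * kb * (ka * (a * a')) * (b * b') := by rw [e4]
      _ = v2 * (kb * ka) * a * (a' * b) * b' := by group
      _ = v2 * (ka * kb) * a * (v1 * (b * a')) * b' := by rw [c6, e3]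
      _ = v2 * (ka * kb) * (a * v1) * b * (a' * b') := by group
      _ = v2 * (ka * kb) * (v1 * a) * b * (a' * b') := by rw [c5]
      _ = v2 * ((ka * kb) * v1) * (a * b * (a' * b')) := by group
      _ = v2 * (v1 * (ka * kb)) * (a * b * (a' * b')) := by
        rw [f.commPP (mul_mem hkaP hkbP) hv1P]
      _ = (v2 * v1) * (ka * kb) * (a * b * (a' * b')) := by group
      _ = (ka * kb) * (a * b * (a' * b')) := by rw [hv12, one_mul]
  calc a' * b' * (a * b) * (a' * b')⁻¹ * (a * b)⁻¹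
      = (ka * kb) * (a * b * (a' * b')) * (a' * b')⁻¹ * (a * b)⁻¹ := by rw [key]
    _ = ka * kb := by group

/-- a swap involution `w` centralizing `P` is moved by `C_G(P)` to all of `w P` -/
theorem Swap.move [Finite G] {w : G} (hw : w ∈ centralizer (P : Set G)) (hsw : Sw A E w) (hw2 : w * w = 1)
    {p : G} (hp : p ∈ P) : ∃ t ∈ centralizer (P : Set G), t * w * t⁻¹ = w * p := by
  have hwinv : w⁻¹ = w := inv_eq_of_mul_eq_one_left hw2
  have hmem : ∀ a ∈ A, (w * a * w⁻¹) * a * (w * a * w⁻¹)⁻¹ * a⁻¹ ∈ P := by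
    intro a ha
    have : (w * a * w⁻¹) * a * (w * a * w⁻¹)⁻¹ * a⁻¹ =
        (a * (w * a * w⁻¹) * a⁻¹ * (w * a * w⁻¹)⁻¹)⁻¹ := by group
    rw [this]
    exact inv_mem (f.brP a ha _ (hsw.1 a ha))
  let κ : A →* P :=
    { toFun := fun a => ⟨(w * (a : G) * w⁻¹) * a * (w * (a : G) * w⁻¹)⁻¹ * (a : G)⁻¹, hmem a a.2⟩
      map_one' := by
        apply Subtype.ext
        simp
      map_mul' := by
        intro a b
        apply Subtype.ext
        exact kappa_mul f n hw hsw hw2 a.2 b.2 }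
  have hker : κ.ker ≤ P.subgroupOf A := by
    intro a ha
    rw [MonoidHom.mem_ker] at ha
    have h1 : (w * (a : G) * w⁻¹) * a * (w * (a : G) * w⁻¹)⁻¹ * (a : G)⁻¹ = 1 := congrArg Subtype.val ha
    rw [mem_subgroupOf]
    rw [mul_inv_eq_one, mul_inv_eq_iff_eq_mul] at h1
    by_contra haP
    have h2 := f.brA a a.2 haP _ (hsw.1 a a.2) h1.symm
    apply haP
    have h3 := mem_cent.mp hw _ h2
    have h4 : (a : G) = w⁻¹ * (w * a * w⁻¹) * w := by group
    rw [h4, mul_assoc, ← h3, inv_mul_cancel_left]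
    exact h2
  have h1 : Nat.card κ.ker * κ.ker.index = Nat.card A := Subgroup.card_mul_index _
  rw [Subgroup.index_ker, n.cardA] at h1
  have h2 := Subgroup.card_le_of_le hker
  rw [Nat.card_congr (Subgroup.subgroupOfEquivOfLe f.PA).toEquiv, f.cardP] at h2
  have hq0 : 0 < q := lt_of_lt_of_le (by norm_num) f.q8
  have h3 : q ≤ Nat.card κ.range := by
    have h4 : q * q ≤ q * Nat.card κ.range := by
      rw [← pow_two, ← h1]
      exact Nat.mul_le_mul_right _ h2
    exact Nat.le_of_mul_le_mul_left h4 hq0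
  have h4 : κ.range = ⊤ := by
    apply Subgroup.eq_top_of_card_eq
    apply le_antisymm (Subgroup.card_le_card_group _)
    rw [f.cardP]
    exact h3
  have h5 : (⟨p, hp⟩ : P) ∈ κ.range := by rw [h4]; trivial
  obtain ⟨a, ha⟩ := h5
  have ha' : (w * (a : G) * w⁻¹) * a * (w * (a : G) * w⁻¹)⁻¹ * (a : G)⁻¹ = p := congrArg Subtype.val ha
  refine ⟨(a : G) * (w * a * w⁻¹), mul_mem (f.A_cent a.2) (f.E_cent (hsw.1 a a.2)), ?_⟩
  -- `t w t⁻¹ = w [a', a]`
  have h6 : w * (w * (a : G) * w⁻¹) * w⁻¹ = a := by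
    rw [hwinv]
    calc w * (w * (a : G) * w) * w = (w * w) * a * (w * w) := by group
      _ = a := by rw [hw2]; group
  calc (a : G) * (w * a * w⁻¹) * w * ((a : G) * (w * a * w⁻¹))⁻¹
      = (w * w) * ((a : G) * (w * a * w⁻¹) * w * ((a : G) * (w * a * w⁻¹))⁻¹) := by rw [hw2, one_mul]
    _ = w * ((w * a * w⁻¹) * (w * (w * (a : G) * w⁻¹) * w⁻¹) * (w * w) * (w * (a : G) * w⁻¹)⁻¹ * (a : G)⁻¹) := by
      group
    _ = w * ((w * a * w⁻¹) * a * (w * (a : G) * w⁻¹)⁻¹ * (a : G)⁻¹) := by rw [h6, hw2, mul_one]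
    _ = w * p := by rw [ha']

/-- the fixed points for an element normalizing `A` and `E` -/
theorem Swap.cent_le [Finite G] {s : G} (hs : s ∈ S) (hsn : Nm A E s) {X : Subgroup G}
    (hX : X ≤ A ∨ X ≤ E) (hXs : ∀ e ∈ X, s * e = e * s) :
    Nat.card X ≤ Nat.card (P ⊓ centralizer ({s} : Set G) : Subgroup G) ^ 2 := by
  have hsA : s ∈ normalizer (A : Set G) := mem_normalizer_of_le hsn.1
  have hsE : s ∈ normalizer (E : Set G) := mem_normalizer_of_le hsn.2
  have hsub : X ⊓ P ≤ P ⊓ centralizer ({s} : Set G) := fun e he =>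
    ⟨he.2, mem_cent1.mpr (hXs e he.1).symm⟩
  rcases hX with hX | hX
  · obtain ⟨e, he, heP, hes⟩ := exists_fixed (S := S ⊓ normalizer (E : Set G)) (N := E) (P := P)
      (f.two.to_le inf_le_left) (le_inf f.ES le_normalizer)
      (fun t ht x hx => conj_mem_of_mem_normalizer ht.2 hx) (fun t ht x hx => f.normP t ht.1 x hx) f.EnP
    have h1 := f.card_A_le he heP (hes s ⟨hs, hsE⟩) hX (fun e he => by
      rw [cm_one (hXs e he)]; exact one_mem _)
    rw [pow_two]
    exact h1.trans (Nat.mul_le_mul_right _ (Subgroup.card_le_of_le hsub))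
  · obtain ⟨e, he, heP, hes⟩ := exists_fixed (S := S ⊓ normalizer (A : Set G)) (N := A) (P := P)
      (f.two.to_le inf_le_left) (le_inf f.AS le_normalizer)
      (fun t ht x hx => conj_mem_of_mem_normalizer ht.2 hx) (fun t ht x hx => f.normP t ht.1 x hx) f.AnP
    have h1 := f.card_E_le he heP (hes s ⟨hs, hsA⟩) hX (fun e he => by
      rw [cm_one (hXs e he)]; exact one_mem _)
    rw [pow_two]
    exact h1.trans (Nat.mul_le_mul_right _ (Subgroup.card_le_of_le hsub))

/-- the elementary subgroups of order `q²` of `S` are `A` and `E` -/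
theorem Swap.only [Finite G] {X : Subgroup G} (hX : X ≤ S) (hX2 : ∀ x ∈ X, x * x = 1)
    (hXc : Nat.card X = q ^ 2) : X = A ∨ X = E := by
  have hq8 := f.q8
  -- `Y = X ∩ A E`
  have hAE : A ≤ normalizer (E : Set G) := by
    intro a ha
    apply mem_normalizer_of_le
    intro e he
    have : a * e * a⁻¹ = (a * e * a⁻¹ * e⁻¹) * e := by group
    rw [this]
    exact mul_mem (f.PE (f.brP a ha e he)) he
  have hT : ∀ x ∈ A ⊔ E, ∃ a ∈ A, ∃ e ∈ E, x = a * e := by
    intro x hx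
    have h2 : x ∈ ((A ⊔ E : Subgroup G) : Set G) := hx
    rw [coe_mul_of_left_le_normalizer_right A E hAE] at h2
    obtain ⟨u, hu, v, hv, rfl⟩ := h2
    exact ⟨u, hu, v, hv, rfl⟩
  have hTc : A ⊔ E ≤ centralizer (P : Set G) := sup_le (fun a ha => f.A_cent ha) (fun a ha => f.E_cent ha)
  have hmemT : ∀ s ∈ S, s ∈ centralizer (P : Set G) → Nm A E s → s ∈ A ⊔ E := by
    intro s hs hsc hsn
    obtain ⟨a, ha, e, he, rfl⟩ := n.cent s hs hsc hsn
    exact mul_mem (mem_sup_left ha) (mem_sup_right he)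
  set Y : Subgroup G := X ⊓ (A ⊔ E) with hY
  have hYA : Y ≤ A ∨ Y ≤ E := by
    apply le_or_le
    intro x hx
    obtain ⟨a, ha, e, he, rfl⟩ := hT x hx.2
    exact f.inv_AE n.elemE ha he (hX2 _ hx.1)
  by_cases hle : X ≤ A ⊔ E
  · have hXY : Y = X := inf_eq_left.mpr hle
    rw [hXY] at hYA
    rcases hYA with h1 | h1
    · exact Or.inl (Subgroup.eq_of_le_of_card_ge h1 (by rw [hXc, n.cardA]))
    · exact Or.inr (Subgroup.eq_of_le_of_card_ge h1 (by rw [hXc, f.cardE]))
  · exfalso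
    obtain ⟨s, hs, hsT⟩ := SetLike.not_le_iff_exists.mp hle
    have hcomm : ∀ e ∈ Y, s * e = e * s := fun e he => comm_of_elem hX2 hs he.1
    have hYq : Nat.card Y ≤ q := by
      rcases n.perm s (hX hs) with hn | hn
      · have hsc : s ∉ centralizer (P : Set G) := fun h1 => hsT (hmemT s (hX hs) h1 hn)
        exact (n.cent_le f (hX hs) hn hYA hcomm).trans (f.fix2 s (hX hs) hsc)
      · have h1 : Y ≤ P := by
          intro y hy
          have h2 : s * y * s⁻¹ = y := conj_eq_iff_comm.mpr (hcomm y hy)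
          rcases hYA with h3 | h3
          · have h4 := hn.1 y (h3 hy)
            rw [h2] at h4
            exact f.AE (h3 hy) h4
          · have h4 := hn.2 y (h3 hy)
            rw [h2] at h4
            exact f.AE h4 (h3 hy)
        rw [← f.cardP]
        exact Subgroup.card_le_of_le h1
    have h1 : Nat.card X ≤ 2 * Nat.card (X ⊓ centralizer (P : Set G) : Subgroup G) := by
      apply card_le_two_mul inf_le_left
      intro x hx hx' y hy hy'
      exact ⟨mul_mem hx hy, f.cyc x (hX hx) y (hX hy) (fun h1 => hx' ⟨hx, h1⟩) (fun h1 => hy' ⟨hy, h1⟩)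
        (Frame0.sq_cent (P := P) (hX2 x hx)) (Frame0.sq_cent (P := P) (hX2 y hy))⟩
    have h2 : Nat.card (X ⊓ centralizer (P : Set G) : Subgroup G) ≤ 2 * Nat.card Y := by
      apply card_le_two_mul (inf_le_inf_left _ hTc)
      intro x hx hx' y hy hy'
      refine ⟨mul_mem hx.1 hy.1, ?_⟩
      have h3 : Sw A E x := (n.perm x (hX hx.1)).resolve_left
        (fun h4 => hx' ⟨hx.1, hmemT x (hX hx.1) hx.2 h4⟩)
      have h4 : Sw A E y := (n.perm y (hX hy.1)).resolve_left
        (fun h4 => hy' ⟨hy.1, hmemT y (hX hy.1) hy.2 h4⟩)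
      exact hmemT _ (mul_mem (hX hx.1) (hX hy.1)) (mul_mem hx.2 hy.2) (h3.mul h4)
    rw [hXc] at h1
    nlinarith

/-- **derived group, swapping type** -/
theorem Swap.der_swap [Finite G] {w : G} (hw : Bad S P w) (hsw : Sw A E w) {p : G} (hp : p ∈ P)
    (hpw : p * w = w * p) {X : Subgroup G}
    (hX : ∀ y ∈ S, (∀ c ∈ P, c * w = w * c → y * c = c * y) → y * w = w * y → y ∈ X) : p ∈ ⁅X, X⁆ := by
  have h1 := f.fix2 w hw.mem hw.notCent
  have hw2 := hw.sq
  have hwinv : w⁻¹ = w := inv_eq_of_mul_eq_one_left hw2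
  have hcm : ∀ c ∈ P, c * w = w * c → ∃ v ∈ P, w * v * w⁻¹ * v⁻¹ = c := by
    intro c hc hcw
    exact exists_cm f.elemP (w := w) (fun a ha => f.normP w hw.mem a ha)
      (fun a _ => by rw [hw2]; group) (by rw [f.cardP]; exact h1) hc hcw
  obtain ⟨v, hv, hvp⟩ := hcm p hp hpw
  -- `t_a`
  have hw2' : ∀ a : G, w * (w * a * w⁻¹) * w⁻¹ = a := by
    intro a
    rw [hwinv]
    calc w * (w * a * w) * w = (w * w) * a * (w * w) := by group
      _ = a := by rw [hw2]; group
  have ht : ∀ a ∈ A, ∃ c ∈ P, (a * (w * a * w⁻¹) * c) * w = w * (a * (w * a * w⁻¹) * c) := by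
    intro a ha
    set a' : G := w * a * w⁻¹ with ha'
    have ha'E : a' ∈ E := hsw.1 a ha
    have hk : a * a' * a⁻¹ * a'⁻¹ ∈ P := f.brP a ha a' ha'E
    have hwa' : w * a' * w⁻¹ = a := hw2' a
    have hkw : (a * a' * a⁻¹ * a'⁻¹) * w = w * (a * a' * a⁻¹ * a'⁻¹) := by
      have h2 : w * (a * a' * a⁻¹ * a'⁻¹) * w⁻¹ = a * a' * a⁻¹ * a'⁻¹ := by
        calc w * (a * a' * a⁻¹ * a'⁻¹) * w⁻¹
            = (w * a * w⁻¹) * (w * a' * w⁻¹) * (w * a * w⁻¹)⁻¹ * (w * a' * w⁻¹)⁻¹ := by group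
          _ = a' * a * a'⁻¹ * a⁻¹ := by rw [hwa']
          _ = (a * a' * a⁻¹ * a'⁻¹)⁻¹ := by group
          _ = a * a' * a⁻¹ * a'⁻¹ := f.inv_eq hk
      exact (conj_eq_iff_comm.mp h2).symm
    obtain ⟨c, hc, hcm'⟩ := hcm _ hk hkw
    refine ⟨c, hc, ?_⟩
    -- `w c w⁻¹ = [a, a'] c`
    have h3 : w * c * w⁻¹ = (a * a' * a⁻¹ * a'⁻¹) * c := by rw [← hcm']; group
    have h4 : w * (a * a' * c) * w⁻¹ = a * a' * c := by
      have c1 := f.commPE hk ha'E
      have c2 := f.commPA hk ha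
      calc w * (a * a' * c) * w⁻¹ = (w * a * w⁻¹) * (w * a' * w⁻¹) * (w * c * w⁻¹) := by group
        _ = a' * a * ((a * a' * a⁻¹ * a'⁻¹) * c) := by rw [hwa', h3]
        _ = a' * (a * (a * a' * a⁻¹ * a'⁻¹)) * c := by group
        _ = a' * ((a * a' * a⁻¹ * a'⁻¹) * a) * c := by rw [c2]
        _ = (a' * (a * a' * a⁻¹ * a'⁻¹)) * a * c := by group
        _ = ((a * a' * a⁻¹ * a'⁻¹) * a') * a * c := by rw [c1]
        _ = a * a' * c := by group
    exact (conj_eq_iff_comm.mp h4).symm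
  obtain ⟨a, ha, haP⟩ := f.AnP
  obtain ⟨e, he, hev⟩ := f.surj a ha haP v hv
  set b : G := w * e * w⁻¹ with hb
  have hbA : b ∈ A := hsw.2 e he
  have hb' : w * b * w⁻¹ = e := hw2' e
  obtain ⟨ca, hca, hta⟩ := ht a ha
  obtain ⟨cb, hcb, htb⟩ := ht b hbA
  set a' : G := w * a * w⁻¹ with ha'
  have ha'E : a' ∈ E := hsw.1 a ha
  rw [hb'] at htb
  -- `v' = [a', b] = v^w`
  have hv' : a' * b * a'⁻¹ * b⁻¹ = w * v * w⁻¹ := by
    rw [← hev, ha', hb]
    group
  have hv'P : w * v * w⁻¹ ∈ P := f.normP w hw.mem v hv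
  -- the commutator
  have key : (a * a' * ca) * (b * e * cb) = p * ((b * e * cb) * (a * a' * ca)) := by
    have c1 := f.commPA hca hbA
    have c2 := f.commPE hca he
    have e1 : a' * b = (w * v * w⁻¹) * (b * a') := by rw [← hv']; group
    have e2 : a * e = v * (e * a) := by rw [← hev]; group
    have e3 := f.commE a' ha'E e he
    have e4 : a * b = b * a := comm_of_elem f.elemA ha hbA
    have c3 := f.commPA hv'P ha
    have c4 := f.commPA hv hbA
    have c5 := f.commPA hcb ha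
    have c6 := f.commPE hcb ha'E
    have c7 := f.commPP hca hcb
    have hpv : p = (w * v * w⁻¹) * v := by rw [← hvp, f.inv_eq hv]
    calc (a * a' * ca) * (b * e * cb) = a * a' * (ca * b) * e * cb := by group
      _ = a * a' * (b * ca) * e * cb := by rw [c1]
      _ = a * (a' * b) * (ca * e) * cb := by group
      _ = a * ((w * v * w⁻¹) * (b * a')) * (e * ca) * cb := by rw [e1, c2]
      _ = (a * (w * v * w⁻¹)) * b * (a' * e) * (ca * cb) := by group
      _ = ((w * v * w⁻¹) * a) * b * (e * a') * (cb * ca) := by rw [← c3, e3, c7]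
      _ = (w * v * w⁻¹) * (a * b) * e * a' * cb * ca := by group
      _ = (w * v * w⁻¹) * (b * a) * e * a' * cb * ca := by rw [e4]
      _ = (w * v * w⁻¹) * b * (a * e) * a' * cb * ca := by group
      _ = (w * v * w⁻¹) * b * (v * (e * a)) * a' * cb * ca := by rw [e2]
      _ = (w * v * w⁻¹) * (b * v) * e * a * (a' * cb) * ca := by group
      _ = (w * v * w⁻¹) * (v * b) * e * a * (cb * a') * ca := by rw [c4, c6]
      _ = ((w * v * w⁻¹) * v) * b * e * (a * cb) * a' * ca := by group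
      _ = p * b * e * (cb * a) * a' * ca := by rw [← hpv, c5]
      _ = p * ((b * e * cb) * (a * a' * ca)) := by group
  have hpe : ⁅a * a' * ca, b * e * cb⁆ = p := by
    rw [commutatorElement_def, key]
    group
  rw [← hpe]
  apply Subgroup.commutator_mem_commutator
  · refine hX _ (mul_mem (mul_mem (f.AS ha) (f.ES ha'E)) (f.PS hca)) (fun c hc _ => ?_) hta
    exact mem_cent.mp (mul_mem (mul_mem (f.A_cent ha) (f.E_cent ha'E)) (f.A_cent (f.PA hca))) c hc
  · refine hX _ (mul_mem (mul_mem (f.AS hbA) (f.ES he)) (f.PS hcb)) (fun c hc _ => ?_) htb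
    exact mem_cent.mp (mul_mem (mul_mem (f.A_cent hbA) (f.E_cent he)) (f.A_cent (f.PA hcb))) c hc

end

/-- **the affine case with swap**: `P` is strongly closed -/
theorem affSw_strong [Finite G] (f : Frame S A E P q II) (n : Swap S A E P q II) : ∀ a ∈ P, ∀ g : G, g * a * g⁻¹ ∈ S → g * a * g⁻¹ ∈ P := by
  have hswap : ∀ w ∈ S, w ∈ centralizer (P : Set G) → w ∉ P → Conj P w → Sw A E w := by
    intro w hw hwc hwP hconj
    exact (n.perm w hw).resolve_left fun h1 =>
      hwP (n.inv' f.toFrame0 hw hwc h1 (mul_self_of hconj.1) (f.not_II hconj))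
  refine f.strongP ?_ ?_ ?_ ?_
  · intro x hx y hy hxc hyc hxP hyP hxC hyC hxy
    have h1 := hswap x hx hxc hxP hxC
    have h2 := hswap y hy hyc hyP hyC
    have h3 : (x * y) * (x * y) = 1 := by
      calc (x * y) * (x * y) = x * (y * x) * y := by group
        _ = x * (x * y) * y := by rw [hxy]
        _ = (x * x) * (y * y) := by group
        _ = 1 := by rw [mul_self_of hxC.1, mul_self_of hyC.1, one_mul]
    have h4 : x * (x * y) * x⁻¹ = x * y := by
      calc x * (x * y) * x⁻¹ = x * (y * x) * x⁻¹ := by rw [hxy]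
        _ = x * y := by group
    rcases n.inv f.toFrame0 (mul_mem hx hy) (mul_mem hxc hyc) (h1.mul h2) h3 with h5 | h5
    · have h6 := h1.1 _ h5
      rw [h4] at h6
      exact f.AE h5 h6
    · have h6 := h1.2 _ h5
      rw [h4] at h6
      exact f.AE h6 h5
  · intro w hw hwc hwP hconj p hp
    exact n.move f.toFrame0 hwc (hswap w hw hwc hwP hconj) (mul_self_of hconj.1) hp
  · intro x hx
    have h0 : A ≤ S ⊓ centralizer (P : Set G) := fun a ha => ⟨f.AS ha, f.A_cent ha⟩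
    have h0' : E ≤ S ⊓ centralizer (P : Set G) := fun a ha => ⟨f.ES ha, f.E_cent ha⟩
    have h1 : cj x⁻¹ A ≤ S := le_cj_iff.mp (h0.trans hx)
    have h1' : cj x⁻¹ E ≤ S := le_cj_iff.mp (h0'.trans hx)
    have h2 := n.only f.toFrame0 h1 (elem_cj f.elemA _) (by rw [card_cj, n.cardA])
    have h2' := n.only f.toFrame0 h1' (elem_cj n.elemE _) (by rw [card_cj, f.cardE])
    -- `P^{x⁻¹} ≤ A ∩ E`
    have h3 : cj x⁻¹ P ≤ P := by
      have hA : cj x⁻¹ P ≤ cj x⁻¹ A := cj_mono f.PA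
      have hE : cj x⁻¹ P ≤ cj x⁻¹ E := cj_mono f.PE
      have hne : cj x⁻¹ A ≠ cj x⁻¹ E := by
        intro h4
        rw [cj_eq_iff, inv_inv, ← cj_mul, mul_inv_cancel, cj_one] at h4
        obtain ⟨a, ha, haP⟩ := f.AnP
        exact haP (f.AE ha (h4 ▸ ha))
      intro p hp
      rcases h2 with h4 | h4 <;> rcases h2' with h5 | h5
      · exact absurd (h4.trans h5.symm) hne
      · rw [h4] at hA
        rw [h5] at hE
        exact f.AE (hA hp) (hE hp)
      · rw [h4] at hA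
        rw [h5] at hE
        exact f.AE (hE hp) (hA hp)
      · exact absurd (h4.trans h5.symm) hne
    have h4 : cj x⁻¹ P = P := Subgroup.eq_of_le_of_card_ge h3 (by rw [card_cj])
    rw [cj_eq_iff, inv_inv] at h4
    exact h4.symm
  · intro w hw p hp hpw X hX
    rcases n.perm w hw.mem with h1 | h1
    · exact f.der_field hw h1.1 h1.2 hp hpw hX
    · exact n.der_swap f.toFrame0 hw h1 hp hpw hX

/-- **the affine case with swap** is impossible in a simple group -/
theorem affSw [Finite G] [IsSimpleGroup G] (f : Frame S A E P q II) (n : Swap S A E P q II)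
    (gold : Cfsg.Agent.StdSz.EndClosed.Gold.{u}) : False :=
  f.false_of_strongP gold (affSw_strong f n)

end Cfsg.Agent.OddHalf.D4.RkEnd.Aff
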