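import Mathlib
import Cfsg.Agent.OddHalf.D4.RkEnd.SC
import Cfsg.Agent.OddHalf.D4.RkEnd.End

/-!
# ODD, D4, rank one ends: two members `{Q, P}`

`A = Q × P` elementary abelian, `|Q| = |P| = q ≥ 8`, the Sylow 2-subgroup `S` of `G` permutes `{Q, P}`, `T = N_S(Q)`
acts on `P` like a group of field automorphisms with `T / A` cyclic, some element of `S` swaps `Q` and `P`.
Then `A` is strongly closed in `S` and `G` is not simple.
-/

set_option autoImplicit false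

namespace Cfsg.Agent.OddHalf.D4.RkEnd.TwoMem

open Subgroup Cfsg.Agent.OddHalf.D4.Basic Cfsg.Agent.OddHalf.D4.CommConj
open Cfsg.Agent.OddHalf.D4.RkEnd.Tools Cfsg.Agent.OddHalf.D4.RkEnd.End
open scoped Pointwise

universe u

variable {G : Type u} [Group G]

/-- the hypothesis without `S ∈ Syl₂(G)` -/
structure Pre (S T Q P : Subgroup G) (q : ℕ) : Prop where
  elem : ∀ a ∈ Q ⊔ P, a * a = 1
  disj : ∀ x ∈ Q, x ∈ P → x = 1
  cardQ : Nat.card Q = q
  cardP : Nat.card P = q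
  q8 : 8 ≤ q
  leT : Q ⊔ P ≤ T
  TS : T ≤ S
  normQ : ∀ t ∈ T, ∀ x ∈ Q, t * x * t⁻¹ ∈ Q
  normP : ∀ t ∈ T, ∀ x ∈ P, t * x * t⁻¹ ∈ P
  swapQ : ∀ s ∈ S, s ∉ T → ∀ x ∈ Q, s * x * s⁻¹ ∈ P
  swapP : ∀ s ∈ S, s ∉ T → ∀ x ∈ P, s * x * s⁻¹ ∈ Q
  idx : ∀ s ∈ S, s ∉ T → ∀ s' ∈ S, s' ∉ T → s * s' ∈ T
  swap : ∃ s ∈ S, s ∉ T
  fixP : ∀ t ∈ T, t ∉ Q ⊔ P → Nat.card (P ⊓ centralizer ({t} : Set G) : Subgroup G) ^ 2 ≤ q
  fix4 : ∀ t ∈ T, t * t ∉ Q ⊔ P → Nat.card (P ⊓ centralizer ({t} : Set G) : Subgroup G) ^ 4 ≤ q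
  cyc : ∀ t ∈ T, ∀ t' ∈ T, t ∉ Q ⊔ P → t' ∉ Q ⊔ P → t * t ∈ Q ⊔ P → t' * t' ∈ Q ⊔ P → t * t' ∈ Q ⊔ P

/-- the hypothesis -/
structure Hyp (S T Q P : Subgroup G) (q : ℕ) : Prop extends Pre S T Q P q where
  syl : IsSyl S ⊤

variable {S T Q P : Subgroup G} {q : ℕ}

namespace Pre

theorem comm (h : Pre S T Q P q) {a b : G} (ha : a ∈ Q ⊔ P) (hb : b ∈ Q ⊔ P) : a * b = b * a :=
  comm_of_elem h.elem ha hb

theorem mem_sup (h : Pre S T Q P q) {a : G} (ha : a ∈ Q ⊔ P) : ∃ u ∈ Q, ∃ v ∈ P, a = u * v := by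
  have h1 : Q ≤ normalizer (P : Set G) := by
    intro x hx
    rw [mem_normalizer_iff]
    intro y
    constructor
    · intro hy
      rw [conj_eq_iff_comm.mpr (h.comm (mem_sup_left hx) (mem_sup_right hy))]
      exact hy
    · intro hy
      have h2 : y = x⁻¹ * (x * y * x⁻¹) * x⁻¹⁻¹ := by group
      have h3 : x⁻¹ * (x * y * x⁻¹) * x⁻¹⁻¹ = x * y * x⁻¹ :=
        conj_eq_iff_comm.mpr (h.comm (inv_mem (mem_sup_left hx)) (mem_sup_right hy))
      rw [h2, h3]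
      exact hy
  have h2 : a ∈ ((Q ⊔ P : Subgroup G) : Set G) := ha
  rw [coe_mul_of_left_le_normalizer_right Q P h1] at h2
  obtain ⟨u, hu, v, hv, rfl⟩ := h2
  exact ⟨u, hu, v, hv, rfl⟩

theorem card_sup [Finite G] (h : Pre S T Q P q) : Nat.card (Q ⊔ P : Subgroup G) = q ^ 2 := by
  have h1 := Cfsg.Agent.Lib.ProductSet.card_mul_card_inf Q P
  have h2 : Q ⊓ P = ⊥ := by
    rw [Subgroup.eq_bot_iff_forall]
    intro x hx
    exact h.disj x hx.1 hx.2
  rw [h2, Subgroup.card_bot, mul_one, h.cardQ, h.cardP] at h1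
  have h3 : ((Q : Set G) * (P : Set G) : Set G) = ((Q ⊔ P : Subgroup G) : Set G) := by
    ext x
    constructor
    · rintro ⟨u, hu, v, hv, rfl⟩
      exact mul_mem (mem_sup_left hu) (mem_sup_right hv)
    · intro hx
      obtain ⟨u, hu, v, hv, rfl⟩ := h.mem_sup hx
      exact ⟨u, hu, v, hv, rfl⟩
  rw [h3] at h1
  rw [pow_two]
  exact h1

/-- uniqueness of the decomposition -/
theorem unique (h : Pre S T Q P q) {u u' v v' : G} (hu : u ∈ Q) (hu' : u' ∈ Q) (hv : v ∈ P) (hv' : v' ∈ P)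
    (he : u * v = u' * v') : u = u' ∧ v = v' := by
  have h1 : u'⁻¹ * u = v' * v⁻¹ := by
    rw [inv_mul_eq_iff_eq_mul, ← mul_assoc, ← he, mul_inv_cancel_right]
  have h2 := h.disj (u'⁻¹ * u) (mul_mem (inv_mem hu') hu) (by rw [h1]; exact mul_mem hv' (inv_mem hv))
  have h3 : u = u' := by
    rw [inv_mul_eq_one] at h2
    exact h2.symm
  refine ⟨h3, ?_⟩
  rw [h3] at he
  exact mul_left_cancel he

/-- `C_A(t) = C_Q(t) C_P(t)` for `t ∈ T` -/
theorem cent_split (h : Pre S T Q P q) {t : G} (ht : t ∈ T) {u v : G} (hu : u ∈ Q) (hv : v ∈ P)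
    (hc : u * v * t = t * (u * v)) : u * t = t * u ∧ v * t = t * v := by
  have h1 : t * (u * v) * t⁻¹ = u * v := conj_eq_iff_comm.mpr hc.symm
  have h2 : (t * u * t⁻¹) * (t * v * t⁻¹) = u * v := by rw [← h1]; group
  obtain ⟨h3, h4⟩ := h.unique (h.normQ t ht u hu) hu (h.normP t ht v hv) hv h2
  exact ⟨(conj_eq_iff_comm.mp h3).symm, (conj_eq_iff_comm.mp h4).symm⟩

/-- the count over `T` -/
theorem card_cent_le [Finite G] (h : Pre S T Q P q) {t : G} (ht : t ∈ T) :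
    Nat.card ((Q ⊔ P) ⊓ centralizer ({t} : Set G) : Subgroup G) ≤
      Nat.card (Q ⊓ centralizer ({t} : Set G) : Subgroup G) *
        Nat.card (P ⊓ centralizer ({t} : Set G) : Subgroup G) := by
  rw [← Nat.card_prod]
  let f : (Q ⊓ centralizer ({t} : Set G) : Subgroup G) × (P ⊓ centralizer ({t} : Set G) : Subgroup G) →
      ((Q ⊔ P) ⊓ centralizer ({t} : Set G) : Subgroup G) := fun p =>
    ⟨(p.1 : G) * p.2, mul_mem (mem_sup_left p.1.2.1) (mem_sup_right p.2.2.1), mul_mem p.1.2.2 p.2.2.2⟩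
  apply Nat.card_le_card_of_surjective f
  rintro ⟨a, ha⟩
  obtain ⟨u, hu, v, hv, rfl⟩ := h.mem_sup ha.1
  obtain ⟨h1, h2⟩ := h.cent_split ht hu hv (mem_cent1.mp ha.2)
  exact ⟨(⟨u, hu, mem_cent1.mpr h1⟩, ⟨v, hv, mem_cent1.mpr h2⟩), rfl⟩

/-- a swap carries `C_Q(t)` to `C_P(s t s⁻¹)` -/
theorem card_Q_cent [Finite G] (h : Pre S T Q P q) {s t : G} (hs : s ∈ S) (hsT : s ∉ T) :
    Nat.card (Q ⊓ centralizer ({t} : Set G) : Subgroup G) ≤
      Nat.card (P ⊓ centralizer ({s * t * s⁻¹} : Set G) : Subgroup G) := by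
  rw [← card_cj s]
  apply Subgroup.card_le_of_le
  rintro _ ⟨x, hx, rfl⟩
  refine Subgroup.mem_inf.mpr ⟨h.swapQ s hs hsT x hx.1, mem_cent1.mpr ?_⟩
  have h1 := mem_cent1.mp hx.2
  show s * x * s⁻¹ * (s * t * s⁻¹) = s * t * s⁻¹ * (s * x * s⁻¹)
  calc s * x * s⁻¹ * (s * t * s⁻¹) = s * (x * t) * s⁻¹ := by group
    _ = s * (t * x) * s⁻¹ := by rw [h1]
    _ = s * t * s⁻¹ * (s * x * s⁻¹) := by group

theorem S_conj (h : Pre S T Q P q) {s : G} (hs : s ∈ S) {a : G} (ha : a ∈ Q ⊔ P) : s * a * s⁻¹ ∈ Q ⊔ P := by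
  obtain ⟨u, hu, v, hv, rfl⟩ := h.mem_sup ha
  have e : s * (u * v) * s⁻¹ = (s * u * s⁻¹) * (s * v * s⁻¹) := by group
  rw [e]
  by_cases hsT : s ∈ T
  · exact mul_mem (mem_sup_left (h.normQ s hsT u hu)) (mem_sup_right (h.normP s hsT v hv))
  · exact mul_mem (mem_sup_right (h.swapQ s hs hsT u hu)) (mem_sup_left (h.swapP s hs hsT v hv))

theorem inv_swap {s : G} (hsT : s ∉ T) : s⁻¹ ∉ T := by
  intro h1
  have := inv_mem h1
  rw [inv_inv] at this
  exact hsT this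

/-- the swap normalizes `T` -/
theorem T_conj (h : Pre S T Q P q) {s : G} (hs : s ∈ S) {t : G} (ht : t ∈ T) : s * t * s⁻¹ ∈ T := by
  by_cases hsT : s ∈ T
  · exact mul_mem (mul_mem hsT ht) (inv_mem hsT)
  · have h1 : s * t ∉ T := by
      intro h2
      apply hsT
      have := mul_mem h2 (inv_mem ht)
      rwa [mul_inv_cancel_right] at this
    exact h.idx (s * t) (mul_mem hs (h.TS ht)) h1 s⁻¹ (inv_mem hs) (inv_swap hsT)

theorem A_of_conj (h : Pre S T Q P q) {s : G} (hs : s ∈ S) {t : G} (ht : s * t * s⁻¹ ∈ Q ⊔ P) :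
    t ∈ Q ⊔ P := by
  have := h.S_conj (inv_mem hs) ht
  have e : s⁻¹ * (s * t * s⁻¹) * s⁻¹⁻¹ = t := by group
  rwa [e] at this

theorem fixQ [Finite G] (h : Pre S T Q P q) {t : G} (ht : t ∈ T) (htA : t ∉ Q ⊔ P) :
    Nat.card (Q ⊓ centralizer ({t} : Set G) : Subgroup G) ^ 2 ≤ q := by
  obtain ⟨s, hs, hsT⟩ := h.swap
  exact (Nat.pow_le_pow_left (h.card_Q_cent hs hsT) 2).trans
    (h.fixP _ (h.T_conj hs ht) (fun h1 => htA (h.A_of_conj hs h1)))

theorem fixQ4 [Finite G] (h : Pre S T Q P q) {t : G} (ht : t ∈ T) (htA : t * t ∉ Q ⊔ P) :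
    Nat.card (Q ⊓ centralizer ({t} : Set G) : Subgroup G) ^ 4 ≤ q := by
  obtain ⟨s, hs, hsT⟩ := h.swap
  refine (Nat.pow_le_pow_left (h.card_Q_cent hs hsT) 4).trans
    (h.fix4 _ (h.T_conj hs ht) (fun h1 => htA (h.A_of_conj hs ?_)))
  have e : s * (t * t) * s⁻¹ = s * t * s⁻¹ * (s * t * s⁻¹) := by group
  rw [e]
  exact h1

theorem le_of_sq {a b : ℕ} (h : a ^ 2 ≤ b ^ 2) : a ≤ b := (Nat.pow_le_pow_iff_left (by norm_num)).mp h

/-- `|C_A(t)| ≤ q` for `t ∈ T ∖ A` -/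
theorem centT [Finite G] (h : Pre S T Q P q) {t : G} (ht : t ∈ T) (htA : t ∉ Q ⊔ P) :
    Nat.card ((Q ⊔ P) ⊓ centralizer ({t} : Set G) : Subgroup G) ≤ q := by
  apply le_of_sq
  refine (Nat.pow_le_pow_left (h.card_cent_le ht) 2).trans ?_
  rw [mul_pow, pow_two q]
  exact Nat.mul_le_mul (h.fixQ ht htA) (h.fixP t ht htA)

/-- elements of `X ≤ A` not meeting `P` -/
theorem card_le_of_disj [Finite G] {X A1 Q1 P1 : Subgroup G} (hX : X ≤ A1)
    (hP1 : P1 ≤ A1) (hA1 : Nat.card A1 ≤ Nat.card Q1 * Nat.card P1) (hd : ∀ x ∈ X, x ∈ P1 → x = 1) :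
    Nat.card X ≤ Nat.card Q1 := by
  have h1 := card_inf_ge hX hP1
  have h2 : X ⊓ P1 = ⊥ := by
    rw [Subgroup.eq_bot_iff_forall]
    intro x hx
    exact hd x hx.1 hx.2
  rw [h2, Subgroup.card_bot, mul_one] at h1
  exact Nat.le_of_mul_le_mul_right (h1.trans hA1) Nat.card_pos

theorem swap_disj (h : Pre S T Q P q) {s : G} (hs : s ∈ S) (hsT : s ∉ T) {x : G} (hx : x ∈ P)
    (hxs : x * s = s * x) : x = 1 := by
  apply h.disj x _ hx
  have := h.swapP s hs hsT x hx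
  rwa [conj_eq_iff_comm.mpr hxs.symm] at this

/-- `|C_A(s)| ≤ q` for `s ∈ S ∖ T` -/
theorem centS [Finite G] (h : Pre S T Q P q) {s : G} (hs : s ∈ S) (hsT : s ∉ T) :
    Nat.card ((Q ⊔ P) ⊓ centralizer ({s} : Set G) : Subgroup G) ≤ q := by
  rw [← h.cardQ]
  refine card_le_of_disj (A1 := Q ⊔ P) (P1 := P) inf_le_left le_sup_right ?_ ?_
  · rw [h.card_sup, h.cardQ, h.cardP, pow_two]
  · intro x hx hxP
    exact h.swap_disj hs hsT hxP (mem_cent1.mp hx.2)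

/-- `|C_A(s)| ≤ q` for `s ∈ S ∖ A` -/
theorem cent [Finite G] (h : Pre S T Q P q) {s : G} (hs : s ∈ S) (hsA : s ∉ Q ⊔ P) :
    Nat.card ((Q ⊔ P) ⊓ centralizer ({s} : Set G) : Subgroup G) ≤ q := by
  by_cases hsT : s ∈ T
  · exact h.centT hsT hsA
  · exact h.centS hs hsT

/-- a subgroup of `A` centralized by `t ∈ T ∖ A` and `s ∈ S ∖ T` -/
theorem centTS [Finite G] (h : Pre S T Q P q) {s t : G} (hs : s ∈ S) (hsT : s ∉ T) (ht : t ∈ T)
    (htA : t ∉ Q ⊔ P) {X : Subgroup G} (hX : X ≤ Q ⊔ P) (hXt : ∀ x ∈ X, x * t = t * x)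
    (hXs : ∀ x ∈ X, x * s = s * x) : Nat.card X ^ 2 ≤ q := by
  refine (Nat.pow_le_pow_left ?_ 2).trans (h.fixQ ht htA)
  refine card_le_of_disj (A1 := (Q ⊔ P) ⊓ centralizer ({t} : Set G))
    (P1 := P ⊓ centralizer ({t} : Set G)) ?_ (inf_le_inf_right _ le_sup_right) (h.card_cent_le ht) ?_
  · intro x hx
    exact ⟨hX hx, mem_cent1.mpr (hXt x hx)⟩
  · intro x hx hxP
    exact h.swap_disj hs hsT hxP.1 (hXs x hx)

theorem mem_S (h : Pre S T Q P q) {a : G} (ha : a ∈ Q ⊔ P) : a ∈ S := h.TS (h.leT ha)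

/-- `|X| ≤ 2 |X ∩ T|` -/
theorem idxT [Finite G] (h : Pre S T Q P q) {X : Subgroup G} (hX : X ≤ S) :
    Nat.card X ≤ 2 * Nat.card (X ⊓ T : Subgroup G) := by
  apply card_le_two_mul inf_le_left
  intro x hx hx' y hy hy'
  exact ⟨mul_mem hx hy, h.idx x (hX hx) (fun h1 => hx' ⟨hx, h1⟩) y (hX hy) (fun h1 => hy' ⟨hy, h1⟩)⟩

/-- `|X| ≤ 2 |X ∩ A|` for `X ≤ T` with squares in `A` -/
theorem idxA [Finite G] (h : Pre S T Q P q) {X : Subgroup G} (hX : X ≤ T)
    (hsq : ∀ x ∈ X, x * x ∈ Q ⊔ P) : Nat.card X ≤ 2 * Nat.card (X ⊓ (Q ⊔ P) : Subgroup G) := by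
  apply card_le_two_mul inf_le_left
  intro x hx hx' y hy hy'
  exact ⟨mul_mem hx hy, h.cyc x (hX hx) y (hX hy) (fun h1 => hx' ⟨hx, h1⟩) (fun h1 => hy' ⟨hy, h1⟩)
    (hsq x hx) (hsq y hy)⟩

/-- `A` is the only elementary subgroup of order `q²` of `S` -/
theorem only [Finite G] (h : Pre S T Q P q) {X : Subgroup G} (hX : X ≤ S) (hX2 : ∀ x ∈ X, x * x = 1)
    (hXc : Nat.card X = q ^ 2) : X = Q ⊔ P := by
  by_cases hle : X ≤ Q ⊔ P
  · exact Subgroup.eq_of_le_of_card_ge hle (by rw [hXc, h.card_sup])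
  exfalso
  obtain ⟨e, he, heA⟩ := SetLike.not_le_iff_exists.mp hle
  have h1 := h.idxT hX
  have h2 := h.idxA (X := X ⊓ T) inf_le_right (fun x hx => by
    rw [hX2 x hx.1]; exact one_mem _)
  have h3 : X ⊓ T ⊓ (Q ⊔ P) ≤ (Q ⊔ P) ⊓ centralizer ({e} : Set G) := by
    intro x hx
    exact ⟨hx.2, mem_cent1.mpr (comm_of_elem hX2 hx.1.1 he)⟩
  have h4 := Subgroup.card_le_of_le h3
  have h5 := h.cent (hX he) heA
  rw [hXc] at h1
  have h8 := h.q8
  have h6 : q ^ 2 ≤ 4 * q := by omega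
  nlinarith

theorem wc [Finite G] (h : Pre S T Q P q) (g : G) (hg : cj g (Q ⊔ P) ≤ S) : cj g (Q ⊔ P) = Q ⊔ P :=
  h.only hg (elem_cj h.elem g) (by rw [card_cj, h.card_sup])

end Pre

/-- a Sylow subgroup of the normalizer of a weakly closed subgroup -/
theorem isSyl_top_of_wc [Finite G] {S A : Subgroup G} (h : IsSyl S (normalizer (A : Set G)))
    (hAS : A ≤ S) (hwc : ∀ g : G, cj g A ≤ S → cj g A = A) : IsSyl S ⊤ := by
  refine ⟨h.two, le_top, ?_⟩
  intro Q hQ hle _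
  have h1 : normalizer (S : Set G) ⊓ Q ≤ S := by
    apply h.max _ (hQ.to_le inf_le_right) (le_inf le_normalizer hle)
    intro x hx
    apply mem_normalizer_of_cj_eq
    apply hwc
    have h2 := cj_eq_of_mem_normalizer hx.1
    rw [← h2]
    exact cj_mono hAS
  exact (Cfsg.Agent.Blocks.SylowIn.eq_of_normalizer_inf_le hQ hle h1).le

/-- the Sylow condition in `N(A)` suffices -/
theorem Pre.hyp [Finite G] (h : Pre S T Q P q) (hs : IsSyl S (normalizer ((Q ⊔ P : Subgroup G) : Set G))) :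
    Hyp S T Q P q :=
  { h with syl := isSyl_top_of_wc hs (h.leT.trans h.TS) h.wc }

namespace Hyp

open Pre (le_of_sq)

/-- the hypotheses of `SC` -/
theorem sc [Finite G] (h : Hyp S T Q P q) : SC.Hyp S (Q ⊔ P) q where
  syl := h.syl
  le := h.leT.trans h.TS
  elem := h.elem
  card := h.card_sup
  q8 := h.q8
  wc := h.wc
  cent := by
    intro w hw
    apply le_antisymm (h.cent hw.mem hw.notMem)
    have h1 := card_le_sq (A := Q ⊔ P) (w := w) h.elem (fun a ha => h.S_conj hw.mem ha)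
      (fun a _ => by rw [mul_self_of hw.invol]; group)
    rw [h.card_sup] at h1
    exact le_of_sq h1
  move := by
    intro w hw b hb hbw
    refine exists_move h.elem (fun a ha => h.S_conj hw.mem ha) (mul_self_of hw.invol) ?_ hb hbw
    rw [h.card_sup]
    exact Nat.pow_le_pow_left (h.cent hw.mem hw.notMem) 2
  half := by
    intro w hw y hwy hC
    have hq8 := h.q8
    set C : Subgroup G := (Q ⊔ P) ⊓ centralizer ({w} : Set G) with hCdef
    have hCc : q ≤ Nat.card C := by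
      have h1 := card_le_sq (A := Q ⊔ P) (w := w) h.elem (fun a ha => h.S_conj hw.mem ha)
        (fun a _ => by rw [mul_self_of hw.invol]; group)
      rw [h.card_sup] at h1
      exact le_of_sq h1
    set C1 : Subgroup G := cj y⁻¹ C with hC1
    have hC1S : C1 ≤ S := le_cj_iff.mp hC
    have hC1elem : ∀ b ∈ C1, b * b = 1 := elem_cj (A := C) (fun c hc => h.elem c hc.1) _
    have hC1c : q ≤ Nat.card C1 := by rw [hC1, card_cj]; exact hCc
    have hC1A : Nat.card (C1 ⊓ (Q ⊔ P) : Subgroup G) = Nat.card (C ⊓ cj y (Q ⊔ P) : Subgroup G) := by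
      rw [← card_cj y, cj_inf, hC1, ← cj_mul, mul_inv_cancel, cj_one]
    rw [← hC1A]
    have h1 := h.idxT hC1S
    have h2 := h.idxA (X := C1 ⊓ T) inf_le_right (fun x hx => by
      rw [hC1elem x hx.1]; exact one_mem _)
    by_cases hT : C1 ≤ T
    · rw [inf_eq_left.mpr hT] at h2
      omega
    by_cases hA : C1 ⊓ T ≤ Q ⊔ P
    · have h3 := Subgroup.card_le_of_le (le_inf (inf_le_left : C1 ⊓ T ≤ C1) hA)
      omega
    exfalso
    obtain ⟨s, hs, hsT⟩ := SetLike.not_le_iff_exists.mp hT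
    obtain ⟨t, ht, htA⟩ := SetLike.not_le_iff_exists.mp hA
    -- `w₁ = y⁻¹ w y ∈ A` centralizes `C₁`
    set w1 : G := y⁻¹ * w * y with hw1
    have hw1A : w1 ∈ Q ⊔ P := mem_cj.mp hwy
    have hw1c : ∀ c ∈ C1, c * w1 = w1 * c := by
      rintro _ ⟨c, hc, rfl⟩
      have h3 := mem_cent1.mp hc.2
      show y⁻¹ * c * y⁻¹⁻¹ * w1 = w1 * (y⁻¹ * c * y⁻¹⁻¹)
      calc y⁻¹ * c * y⁻¹⁻¹ * w1 = y⁻¹ * (c * w) * y := by rw [hw1]; group
        _ = y⁻¹ * (w * c) * y := by rw [h3]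
        _ = w1 * (y⁻¹ * c * y⁻¹⁻¹) := by rw [hw1]; group
    have hw1C : w1 ∉ C1 := by
      intro h3
      rw [hC1, mem_cj, inv_inv] at h3
      have e : y * w1 * y⁻¹ = w := by rw [hw1]; group
      rw [e] at h3
      exact hw.notMem h3.1
    have hw1sq : w1 * w1 = 1 := h.elem w1 hw1A
    let X : Subgroup G := ext (C1 ⊓ (Q ⊔ P)) w1 hw1sq (fun c hc => hw1c c hc.1)
    have hXc : Nat.card X = 2 * Nat.card (C1 ⊓ (Q ⊔ P) : Subgroup G) :=
      card_ext (fun h3 => hw1C h3.1)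
    have hcomm : ∀ c ∈ C1, ∀ x ∈ X, x * c = c * x := by
      intro c hc x hx
      rcases hx with hx | hx
      · exact comm_of_elem hC1elem hx.1 hc
      · have h4 := comm_of_elem hC1elem hx.1 hc
        have h5 := hw1c c hc
        have e : x = w1 * (w1 * x) := by rw [← mul_assoc, hw1sq, one_mul]
        calc x * c = (w1 * (w1 * x)) * c := by rw [← e]
          _ = w1 * ((w1 * x) * c) := by group
          _ = w1 * (c * (w1 * x)) := by rw [h4]
          _ = (w1 * c) * (w1 * x) := by group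
          _ = (c * w1) * (w1 * x) := by rw [h5]
          _ = c * (w1 * (w1 * x)) := by group
          _ = c * x := by rw [← e]
    have h3 := h.centTS (hC1S hs) hsT ht.2 htA (X := X) (ext_le inf_le_right hw1A)
      (hcomm t ht.1) (hcomm s hs)
    rw [hXc] at h3
    have h2' : Nat.card (C1 ⊓ T : Subgroup G) ≤ 2 * Nat.card (C1 ⊓ (Q ⊔ P) : Subgroup G) := by
      refine h2.trans (Nat.mul_le_mul_left _ (Subgroup.card_le_of_le ?_))
      exact inf_le_inf_right _ inf_le_left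
    set n := Nat.card (C1 ⊓ (Q ⊔ P) : Subgroup G) with hn
    have h4 : q ≤ 4 * n := by omega
    nlinarith
  big := by
    intro w hw F hFA hFw hFq R hR2 hAR hwR hRN hRF
    have hq8 := h.q8
    have hSN : IsSyl S (normalizer ((Q ⊔ P : Subgroup G) : Set G)) := by
      refine h.syl.mono ?_ le_top
      intro s hs
      rw [mem_normalizer_iff]
      intro a
      exact ⟨fun ha => h.S_conj hs ha, fun ha => h.A_of_conj hs ha⟩
    obtain ⟨m, hm, hmS⟩ := hSN.conj_into hR2 hRN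
    have hmA : cj m (Q ⊔ P) = Q ⊔ P := cj_eq_of_mem_normalizer hm
    set R1 : Subgroup G := cj m R with hR1
    have hR1S : R1 ≤ S := by
      rintro _ ⟨r, hr, rfl⟩
      exact hmS r hr
    have hAR1 : Q ⊔ P ≤ R1 := by rw [← hmA]; exact cj_mono hAR
    set F1 : Subgroup G := cj m F with hF1
    have hF1A : F1 ≤ Q ⊔ P := by rw [← hmA]; exact cj_mono hFA
    have hF1c : q ≤ 2 * Nat.card F1 := by rw [hF1, card_cj]; exact hFq
    have hF1R : ∀ r ∈ R1, ∀ f ∈ F1, f * r = r * f := by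
      rintro _ ⟨r, hr, rfl⟩ _ ⟨f, hf, rfl⟩
      have h1 := hRF r hr f hf
      show m * f * m⁻¹ * (m * r * m⁻¹) = m * r * m⁻¹ * (m * f * m⁻¹)
      calc m * f * m⁻¹ * (m * r * m⁻¹) = m * (f * r) * m⁻¹ := by group
        _ = m * (r * f) * m⁻¹ := by rw [h1]
        _ = m * r * m⁻¹ * (m * f * m⁻¹) := by group
    have hgoal : Nat.card R1 ≤ 2 * Nat.card (Q ⊔ P : Subgroup G) := by
      by_cases hT : R1 ≤ T
      · have h1 : ∀ x ∈ R1, x * x ∈ Q ⊔ P := by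
          intro x hx
          by_contra hcon
          have h2 := h.fix4 x (hT hx) hcon
          have h3 := h.fixQ4 (hT hx) hcon
          have h4 := h.card_cent_le (hT hx)
          have h5 : F1 ≤ (Q ⊔ P) ⊓ centralizer ({x} : Set G) :=
            fun f hf => ⟨hF1A hf, mem_cent1.mpr (hF1R x hx f hf)⟩
          have h6 := Subgroup.card_le_of_le h5
          have h7 : Nat.card F1 ^ 4 ≤ q * q := by
            refine (Nat.pow_le_pow_left (h6.trans h4) 4).trans ?_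
            rw [mul_pow]
            exact Nat.mul_le_mul h3 h2
          have h8 : (Nat.card F1 ^ 2) ^ 2 ≤ q ^ 2 := by
            rw [← pow_mul, pow_two q]
            exact h7
          have h9 := le_of_sq h8
          nlinarith
        have h2 := h.idxA hT h1
        exact h2.trans (Nat.mul_le_mul_left _ (Subgroup.card_le_of_le inf_le_right))
      · obtain ⟨s, hs, hsT⟩ := SetLike.not_le_iff_exists.mp hT
        have h1 := h.idxT hR1S
        by_cases hA : R1 ⊓ T ≤ Q ⊔ P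
        · exact h1.trans (Nat.mul_le_mul_left _ (Subgroup.card_le_of_le hA))
        · exfalso
          obtain ⟨t, ht, htA⟩ := SetLike.not_le_iff_exists.mp hA
          have h3 := h.centTS (hR1S hs) hsT ht.2 htA (X := F1) hF1A (fun f hf => hF1R t ht.1 f hf)
            (fun f hf => hF1R s hs f hf)
          nlinarith
    rw [h.card_sup, hR1, card_cj] at hgoal
    exact hgoal

/-- **`A = Q P` is strongly closed in `S`** -/
theorem strong [Finite G] (h : Hyp S T Q P q) :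
    ∀ a ∈ Q ⊔ P, ∀ g : G, g * a * g⁻¹ ∈ S → g * a * g⁻¹ ∈ Q ⊔ P := h.sc.strong

/-- there is an involution outside `A` -/
theorem exists_out [Finite G] (h : Hyp S T Q P q) : ∃ y ∈ S, y ∉ Q ⊔ P ∧ y * y = 1 := by
  obtain ⟨s, hs, hsT⟩ := h.swap
  obtain ⟨b, hb, hbA, hb2, -⟩ := exists_norm_elt (S := S) (E := Q ⊔ P) (B := S) h.syl.two
    (h.leT.trans h.TS) le_rfl (fun s hs b hb => mul_mem (mul_mem hs hb) (inv_mem hs))
    (fun h1 => hsT (h.leT (h1 hs)))
  obtain ⟨a, ha, hab⟩ := exists_split h.elem (fun a ha => h.S_conj hb ha) hb2 (by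
    rw [h.card_sup]
    exact Nat.pow_le_pow_left (h.cent hb hbA) 2)
  refine ⟨a * b, mul_mem (h.mem_S ha) hb, ?_, hab⟩
  intro h1
  apply hbA
  have := mul_mem (inv_mem ha) h1
  rwa [inv_mul_cancel_left] at this

/-- **the case of two members is impossible in a simple group**; `gold` is S1169 -/
theorem false [Finite G] [IsSimpleGroup G] (gold : Cfsg.Agent.StdSz.EndClosed.Gold.{u})
    (h : Hyp S T Q P q) : False := by
  have hq8 := h.q8
  obtain ⟨x, hx, hx1⟩ : ∃ x ∈ Q, x ≠ 1 := by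
    by_contra hcon
    push Not at hcon
    have h1 : Q = ⊥ := (Subgroup.eq_bot_iff_forall Q).mpr hcon
    have h2 := h.cardQ
    rw [h1, Subgroup.card_bot] at h2
    omega
  obtain ⟨s, hs, hsT⟩ := h.swap
  refine false_of_strong gold h.syl (h.leT.trans h.TS) h.elem ⟨x, mem_sup_left hx, hx1⟩ h.strong h.exists_out
    ⟨s, hs, x, h.mem_S (mem_sup_left hx), ?_⟩
  intro h1
  have h2 := h.swapQ s hs hsT x hx
  rw [conj_eq_iff_comm.mpr h1] at h2
  exact hx1 (h.disj x hx h2)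

end Hyp

end Cfsg.Agent.OddHalf.D4.RkEnd.TwoMem
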